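/-
Finite groups in which abelian subgroups of equal order are conjugate: Sylow subgroups, quotients.
-/
import Cfsg.Agent.Lib.PGroups.UniqueInvolution
import Cfsg.Agent.Lib.TwoGroups.Recognition
import Cfsg.Agent.Lib.Cores.Basic
import Cfsg.Agent.Lib.Cores.MinNormal
import Cfsg.Agent.Lib.Transfer.Frobenius
import Cfsg.Agent.S3909

set_option autoImplicit false
set_option linter.unusedSectionVars false
set_option linter.style.haveILetI false

namespace Cfsg.Agent.Lib.FiniteGroupStructure.ConjAbelian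

open Cfsg.Agent.Lib
open scoped commutatorElement

universe u

/-- Abelian subgroups of equal order are conjugate. -/
def Conj (G : Type u) [Group G] : Prop :=
  ∀ A B : Subgroup G, IsMulCommutative ↥A → IsMulCommutative ↥B → Nat.card ↥A = Nat.card ↥B →
    ∃ g : G, B = A.map (MulAut.conj g).toMonoidHom

variable {G : Type u} [Group G] [Finite G]

theorem mem_normal_of_orderOf_eq (hB : Conj G) {N : Subgroup G} [N.Normal] {a m : G} (hm : m ∈ N)
    (hord : orderOf m = orderOf a) : a ∈ N :=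
  (Cfsg.Agent.S3909.result hB N).1 a ⟨m, hm, hord⟩

theorem mem_normal_of_pow (hB : Conj G) {N : Subgroup G} [N.Normal] {p : ℕ} [hp : Fact p.Prime]
    (hdvd : p ∣ Nat.card N) {a : G} (ha : a ^ p = 1) : a ∈ N := by
  by_cases ha1 : a = 1
  · exact ha1 ▸ N.one_mem
  obtain ⟨m, hm⟩ := exists_prime_orderOf_dvd_card' (G := N) p hdvd
  exact mem_normal_of_orderOf_eq hB m.2
    (by rw [Subgroup.orderOf_coe, hm, orderOf_eq_prime ha ha1])

/-- In a cyclic group divisibility of orders gives containment. -/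
theorem le_of_card_dvd {C : Type*} [Group C] [Finite C] [IsCyclic C] {H K : Subgroup C}
    (h : Nat.card H ∣ Nat.card K) : H ≤ K := by
  classical
  haveI := Fintype.ofFinite C
  let S := Finset.univ.filter fun x : C => x ^ Nat.card K = 1
  have hK : Finset.univ.filter (fun x : C => x ∈ K) = S := by
    refine Finset.eq_of_subset_of_card_le ?_ ?_
    · intro x hx
      rw [Finset.mem_filter] at hx ⊢
      exact ⟨Finset.mem_univ _, congrArg Subtype.val (pow_card_eq_one' (x := (⟨x, hx.2⟩ : K)))⟩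
    · refine (IsCyclic.card_pow_eq_one_le Nat.card_pos).trans (le_of_eq ?_)
      rw [Nat.card_eq_fintype_card, Fintype.card_subtype]
  intro x hx
  have : x ∈ S := by
    rw [Finset.mem_filter]
    refine ⟨Finset.mem_univ _, ?_⟩
    rw [← orderOf_dvd_iff_pow_eq_one]
    refine dvd_trans ?_ h
    have := orderOf_dvd_natCard (⟨x, hx⟩ : H)
    rwa [Subgroup.orderOf_mk] at this
  rw [← hK, Finset.mem_filter] at this
  exact this.2

/-- The possible Sylow subgroups. -/
theorem sylow_cases (hB : Conj G) {p : ℕ} [hp : Fact p.Prime] (P : Sylow p G) :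
    IsCyclic (P : Subgroup G) ∨
      (p = 2 ∧ ∃ k : ℕ, 1 ≤ k ∧ Nonempty ((P : Subgroup G) ≃* QuaternionGroup (2 ^ k))) ∨
      ∀ x ∈ (P : Subgroup G), x ^ p = 1 := by
  by_cases hex : ∃ x ∈ (P : Subgroup G), orderOf x = p ^ 2
  swap
  · refine Or.inr (Or.inr fun x hx => ?_)
    obtain ⟨k, hk⟩ := P.isPGroup' ⟨x, hx⟩
    have hk' : x ^ p ^ k = 1 := congrArg Subtype.val hk
    obtain ⟨j, -, hj⟩ := (Nat.dvd_prime_pow hp.out).1 (orderOf_dvd_of_pow_eq_one hk')
    have hj1 : j ≤ 1 := by
      by_contra hlt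
      refine hex ⟨x ^ (orderOf x / p ^ 2), (P : Subgroup G).pow_mem hx _, ?_⟩
      exact orderOf_pow_orderOf_div (orderOf_pos x).ne' (hj ▸ Nat.pow_dvd_pow p (by omega))
    rw [← orderOf_dvd_iff_pow_eq_one, hj]
    exact (Nat.pow_dvd_pow p hj1).trans (pow_one p).dvd
  obtain ⟨x₀, hx₀, hx₀o⟩ := hex
  haveI : Nontrivial (P : Subgroup G) := ⟨⟨x₀, hx₀⟩, 1, fun h => by
    have h1 : orderOf x₀ = 1 := orderOf_eq_one_iff.2 (congrArg Subtype.val h)
    rw [hx₀o] at h1
    exact (Nat.one_lt_pow (by norm_num) hp.out.one_lt).ne' h1⟩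
  haveI := P.isPGroup'.center_nontrivial
  obtain ⟨k, hk⟩ := IsPGroup.iff_card.1 (P.isPGroup'.to_subgroup (Subgroup.center (P : Subgroup G)))
  have hk0 : k ≠ 0 := fun h => by
    rw [h, pow_zero] at hk
    exact (Finite.one_lt_card (α := Subgroup.center (P : Subgroup G))).ne' hk
  obtain ⟨z, hz⟩ := exists_prime_orderOf_dvd_card' (G := Subgroup.center (P : Subgroup G)) p
    (hk ▸ dvd_pow_self p hk0)
  let z' : G := ((z : (P : Subgroup G)) : G)
  have hz' : orderOf z' = p := by rw [Subgroup.orderOf_coe, Subgroup.orderOf_coe, hz]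
  have key : ∀ w : G, w ∈ (P : Subgroup G) → orderOf w = p → w ∈ Subgroup.zpowers z' := by
    intro w hw hwo
    by_contra hnot
    have hcomm : Commute w z' :=
      congrArg Subtype.val (Subgroup.mem_center_iff.1 z.2 ⟨w, hw⟩)
    let E := Subgroup.closure ({w, z'} : Set G)
    haveI hEc : IsMulCommutative E := Subgroup.isMulCommutative_closure (by
      rintro a (rfl | rfl) b (rfl | rfl)
      exacts [rfl, hcomm.eq, hcomm.eq.symm, rfl])
    have hexp : ∀ a ∈ E, a ^ p = 1 := by
      intro a ha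
      induction ha using Subgroup.closure_induction with
      | mem a ha =>
        rcases ha with rfl | rfl
        · rw [← hwo, pow_orderOf_eq_one]
        · rw [← hz', pow_orderOf_eq_one]
      | one => rw [one_pow]
      | mul a b ha hb iha ihb =>
        rw [(show Commute a b from congrArg Subtype.val
          (hEc.is_comm.comm (⟨a, ha⟩ : E) ⟨b, hb⟩)).mul_pow, iha, ihb, one_mul]
      | inv a _ iha => rw [inv_pow, iha, inv_one]
    have hEp : IsPGroup p E := fun a => ⟨1, Subtype.ext (by simpa using hexp a a.2)⟩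
    have hlt : Subgroup.zpowers z' < E := by
      refine lt_of_le_of_ne (Subgroup.zpowers_le.2 (Subgroup.subset_closure (by simp))) fun he => ?_
      exact hnot (he.symm ▸ Subgroup.subset_closure (by simp))
    obtain ⟨m, hm⟩ := IsPGroup.iff_card.1 hEp
    have hm2 : 2 ≤ m := by
      by_contra hm2
      apply hlt.ne
      refine Subgroup.eq_of_le_of_card_ge hlt.le ?_
      rw [hm, Nat.card_zpowers, hz']
      calc p ^ m ≤ p ^ 1 := Nat.pow_le_pow_right hp.out.pos (by omega)
        _ = p := pow_one p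
    obtain ⟨F, hF, -⟩ := Sylow.exists_subgroup_card_pow_prime_le p (G := E) (n := 0) (m := 2)
      (hm ▸ pow_dvd_pow p hm2) ⊥ (by simp) (by omega)
    obtain ⟨g, hg⟩ := hB (F.map E.subtype) (Subgroup.zpowers x₀) inferInstance inferInstance
      (by rw [Subgroup.card_subtype, hF, Nat.card_zpowers, hx₀o])
    obtain ⟨y, ⟨f, -, rfl⟩, hy⟩ := hg.le (Subgroup.mem_zpowers x₀)
    have h1 : x₀ ^ p = 1 := by
      rw [← hy]
      show ((MulAut.conj g) (f : G)) ^ p = 1
      rw [← map_pow, hexp f f.2, map_one]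
    have h2 := Nat.le_of_dvd hp.out.pos (hx₀o ▸ orderOf_dvd_of_pow_eq_one h1)
    have := hp.out.two_le
    nlinarith
  have hu : ∀ x y : (P : Subgroup G), orderOf x = p → orderOf y = p → y ∈ Subgroup.zpowers x := by
    intro x y hx hy
    have hkx := key x.1 x.2 (by rw [Subgroup.orderOf_coe, hx])
    have hky := key y.1 y.2 (by rw [Subgroup.orderOf_coe, hy])
    have hzz : Subgroup.zpowers (x : G) = Subgroup.zpowers z' :=
      Subgroup.eq_of_le_of_card_ge (Subgroup.zpowers_le.2 hkx) (by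
        rw [Nat.card_zpowers, Nat.card_zpowers, hz', Subgroup.orderOf_coe, hx])
    rw [← hzz] at hky
    obtain ⟨i, hi⟩ := hky
    exact ⟨i, Subtype.ext (by simpa using hi)⟩
  rcases PGroups.isCyclic_or_quaternion P.isPGroup' hu with h | h
  · exact Or.inl h
  · exact Or.inr (Or.inl h)

/-! ### Lifting abelian subgroups of a quotient -/

variable {M : Subgroup G} [M.Normal]

/-- A minimal lift of an abelian subgroup of `G ⧸ M`. -/
structure Lift (A : Subgroup (G ⧸ M)) (S : Subgroup G) : Prop where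
  map_eq : S.map (QuotientGroup.mk' M) = A
  minimal : ∀ T : Subgroup G, T ≤ S → T.map (QuotientGroup.mk' M) = A → T = S

theorem exists_lift (A : Subgroup (G ⧸ M)) : ∃ S : Subgroup G, Lift A S := by
  obtain ⟨S, hS, hmin⟩ := (Set.toFinite {T : Subgroup G | T.map (QuotientGroup.mk' M) = A}).exists_minimal
    ⟨A.comap (QuotientGroup.mk' M),
      Subgroup.map_comap_eq_self_of_surjective (QuotientGroup.mk'_surjective M) A⟩
  exact ⟨S, hS, fun T hT hTA => le_antisymm hT (hmin hTA hT)⟩

variable {A : Subgroup (G ⧸ M)} {S : Subgroup G}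

theorem Lift.mem_map (h : Lift A S) {x : G} (hx : x ∈ S) : QuotientGroup.mk' M x ∈ A :=
  h.map_eq ▸ Subgroup.mem_map_of_mem _ hx

theorem Lift.commutator_mem (h : Lift A S) (hA : IsMulCommutative A) (a b : S) :
    ⁅(a : G), (b : G)⁆ ∈ M := by
  rw [← QuotientGroup.eq_one_iff]
  show QuotientGroup.mk' M ⁅(a : G), (b : G)⁆ = 1
  rw [map_commutatorElement, commutatorElement_eq_one_iff_mul_comm]
  exact congrArg Subtype.val (hA.is_comm.comm (⟨_, h.mem_map a.2⟩ : A) ⟨_, h.mem_map b.2⟩)

theorem Lift.isNilpotent (h : Lift A S) (hA : IsMulCommutative A) : Group.IsNilpotent S := by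
  refine (Group.isNilpotent_of_finite_tfae.out 0 2 rfl rfl).2 fun U hU => ?_
  by_cases hMU : M.subgroupOf S ≤ U
  · refine ⟨fun u hu s => ?_⟩
    have h1 : s * u * s⁻¹ * u⁻¹ ∈ U := hMU (h.commutator_mem hA s u)
    simpa using U.mul_mem h1 hu
  · exfalso
    haveI : (M.subgroupOf S).Normal := Subgroup.Normal.subgroupOf ‹M.Normal› S
    have htop : M.subgroupOf S ⊔ U = ⊤ := hU.2 _ (right_lt_sup.2 hMU)
    have hmap : (U.map S.subtype).map (QuotientGroup.mk' M) = A := by
      refine le_antisymm ((Subgroup.map_mono (Subgroup.map_subtype_le U)).trans h.map_eq.le) ?_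
      rw [← h.map_eq]
      rintro _ ⟨x, hx, rfl⟩
      obtain ⟨a, ha, b, hb, hab⟩ := Subgroup.mem_sup_of_normal_left.1
        (htop.symm ▸ Subgroup.mem_top (⟨x, hx⟩ : S) : (⟨x, hx⟩ : S) ∈ M.subgroupOf S ⊔ U)
      refine ⟨b, Subgroup.mem_map_of_mem _ hb, ?_⟩
      rw [show x = (a : G) * b from (congrArg Subtype.val hab).symm, map_mul,
        show QuotientGroup.mk' M (a : G) = 1 from (QuotientGroup.eq_one_iff _).2 ha, one_mul]
    have h1 := h.minimal _ (Subgroup.map_subtype_le U) hmap
    refine hU.1 ?_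
    apply Subgroup.map_injective S.subtype_injective
    rw [h1, ← MonoidHom.range_eq_map, Subgroup.range_subtype]

theorem Lift.card_eq (h : Lift A S) : Nat.card S = Nat.card A * Nat.card (M.subgroupOf S) := by
  let f : S →* G ⧸ M := (QuotientGroup.mk' M).domRestrict S
  have hker : f.ker = M.subgroupOf S := by
    ext x
    exact QuotientGroup.eq_one_iff _
  have hrange : f.range = A := (MonoidHom.domRestrict_range S _).trans h.map_eq
  rw [← f.ker.card_mul_index, Subgroup.index_ker, hrange, hker, mul_comm]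

theorem Lift.prime_dvd (h : Lift A S) (hA : IsMulCommutative A) {p : ℕ} [hp : Fact p.Prime]
    (hdvd : p ∣ Nat.card S) : p ∣ Nat.card A := by
  by_contra hnot
  haveI := h.isNilpotent hA
  obtain ⟨P, N, hN, hc⟩ := Transfer.Frobenius.hasNormalPComplement_of_isNilpotent (p := p) (G := S)
  let f : S →* G ⧸ M := (QuotientGroup.mk' M).domRestrict S
  have hrange : f.range = A := (MonoidHom.domRestrict_range S _).trans h.map_eq
  have hP : ∀ x ∈ (P : Subgroup S), f x = 1 := by
    intro x hx
    obtain ⟨k, hk⟩ := P.isPGroup' ⟨x, hx⟩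
    have hk' : x ^ p ^ k = 1 := congrArg Subtype.val hk
    rw [← orderOf_eq_one_iff]
    have h1 : orderOf (f x) ∣ p ^ k := orderOf_dvd_of_pow_eq_one (by rw [← map_pow, hk', map_one])
    have h2 : orderOf (f x) ∣ Nat.card A := by
      have := orderOf_dvd_natCard (⟨f x, hrange ▸ ⟨x, rfl⟩⟩ : A)
      rwa [Subgroup.orderOf_mk] at this
    exact Nat.eq_one_of_dvd_coprimes ((hp.out.coprime_iff_not_dvd.2 hnot).pow_left k) h1 h2
  have hmap : (N.map S.subtype).map (QuotientGroup.mk' M) = A := by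
    refine le_antisymm ((Subgroup.map_mono (Subgroup.map_subtype_le N)).trans h.map_eq.le) ?_
    rw [← hrange]
    rintro _ ⟨x, rfl⟩
    obtain ⟨⟨⟨n, hn⟩, ⟨y, hy⟩⟩, hny⟩ := hc.2 x
    refine ⟨n, Subgroup.mem_map_of_mem _ hn, ?_⟩
    have hx : f x = f n := by
      rw [← hny]
      show f (n * y) = f n
      rw [map_mul, hP y hy, mul_one]
    exact hx.symm
  have h1 := h.minimal _ (Subgroup.map_subtype_le N) hmap
  have hNtop : N = ⊤ := by
    apply Subgroup.map_injective S.subtype_injective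
    rw [h1, ← MonoidHom.range_eq_map, Subgroup.range_subtype]
  have h2 := hc.card_mul_card
  rw [hNtop, Subgroup.card_top] at h2
  have h3 : Nat.card (P : Subgroup S) = 1 :=
    Nat.eq_of_mul_eq_mul_left (Nat.card_pos (α := S)) (h2.trans (mul_one _).symm)
  exact hp.out.ne_one (Nat.dvd_one.1 (h3 ▸ P.dvd_card_of_dvd_card hdvd))

omit [Finite G] in
/-- A finite nilpotent group with commutative Sylow subgroups is commutative. -/
theorem comm_of_sylow {S : Type*} [Group S] [Finite S] (hn : Group.IsNilpotent S)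
    (h : ∀ (p : ℕ) [Fact p.Prime] (P : Sylow p S), IsMulCommutative (P : Subgroup S)) :
    IsMulCommutative S := by
  obtain ⟨e⟩ := (Group.isNilpotent_of_finite_tfae.out 0 4 rfl rfl).1 hn
  refine ⟨⟨fun a b => e.symm.injective ?_⟩⟩
  rw [map_mul, map_mul]
  funext q P
  haveI : Fact (q : ℕ).Prime := ⟨Nat.prime_of_mem_primeFactors q.2⟩
  exact (h q P).is_comm.comm _ _

/-- Hypothesis making the lifts abelian. -/
def CyclicAbove (M : Subgroup G) : Prop :=
  ∀ (p : ℕ) [Fact p.Prime], p ∣ Nat.card M → p ∣ M.index → ∀ P : Sylow p G, IsCyclic (P : Subgroup G)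

theorem Lift.isMulCommutative (h : Lift A S) (hA : IsMulCommutative A) (hM : CyclicAbove M) :
    IsMulCommutative S := by
  refine comm_of_sylow (h.isNilpotent hA) fun p _ P => ?_
  have hp : p.Prime := Fact.out
  by_cases hdM : p ∣ Nat.card M
  · by_cases hdS : p ∣ Nat.card S
    · have hidx : p ∣ M.index := by
        rw [Subgroup.index_eq_card]
        exact (h.prime_dvd hA hdS).trans A.card_subgroup_dvd_card
      obtain ⟨Q, hQ⟩ := (P.isPGroup'.map S.subtype).exists_le_sylow
      haveI := hM p hdM hidx Q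
      let φ : (P : Subgroup S) →* (Q : Subgroup G) :=
        (S.subtype.comp (P : Subgroup S).subtype).codRestrict _
          fun x => hQ (Subgroup.mem_map_of_mem S.subtype x.2)
      refine ⟨⟨fun a b => Subtype.ext (Subtype.ext ?_)⟩⟩
      exact congrArg (fun t : (Q : Subgroup G) => (t : G)) ((IsCyclic.isMulCommutative (α := (Q : Subgroup G))).is_comm.comm
        (φ a) (φ b))
    · have h1 : Nat.card (P : Subgroup S) = 1 := by
        obtain ⟨k, hk⟩ := IsPGroup.iff_card.1 P.isPGroup'
        rcases k with _ | k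
        · simpa using hk
        · exact absurd ((dvd_pow_self p k.succ_ne_zero).trans (hk ▸ (P : Subgroup S).card_subgroup_dvd_card)) hdS
      haveI : Subsingleton (P : Subgroup S) := (Nat.card_eq_one_iff_unique.1 h1).1
      exact ⟨⟨fun a b => Subsingleton.elim _ _⟩⟩
  · refine ⟨⟨fun a b => ?_⟩⟩
    have hcm : ⁅((a : S) : G), ((b : S) : G)⁆ ∈ M := h.commutator_mem hA a b
    obtain ⟨k, hk⟩ := P.isPGroup' ⁅a, b⁆
    have h1 : orderOf ⁅((a : S) : G), ((b : S) : G)⁆ ∣ p ^ k :=
      orderOf_dvd_of_pow_eq_one (congrArg (fun t : (P : Subgroup S) => ((t : S) : G)) hk)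
    have h2 : orderOf ⁅((a : S) : G), ((b : S) : G)⁆ ∣ Nat.card M := by
      have := orderOf_dvd_natCard (⟨_, hcm⟩ : M)
      rwa [Subgroup.orderOf_mk] at this
    have h3 := orderOf_eq_one_iff.1
      (Nat.eq_one_of_dvd_coprimes ((hp.coprime_iff_not_dvd.2 hdM).pow_left k) h1 h2)
    exact Subtype.ext (Subtype.ext (commutatorElement_eq_one_iff_mul_comm.1 h3))

theorem Lift.factorization_inf (h : Lift A S) (hA : IsMulCommutative A) (hM : CyclicAbove M)
    {p : ℕ} [hp : Fact p.Prime] :
    (Nat.card (M.subgroupOf S)).factorization p =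
      if p ∣ Nat.card A then (Nat.card M).factorization p else 0 := by
  have hdvdM : Nat.card (M.subgroupOf S) ∣ Nat.card M :=
    Subgroup.card_dvd_of_injective
      ((S.subtype.comp (M.subgroupOf S).subtype).codRestrict M fun x => x.2)
      fun a b hab => Subtype.ext (Subtype.ext (congrArg (fun t : M => (t : G)) hab))
  split_ifs with hpA
  swap
  · refine Nat.factorization_eq_zero_of_not_dvd fun hd => hpA (h.prime_dvd hA ?_)
    exact hd.trans (M.subgroupOf S).card_subgroup_dvd_card
  refine le_antisymm ((Nat.factorization_le_iff_dvd Nat.card_pos.ne' Nat.card_pos.ne').2 hdvdM p) ?_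
  by_cases hdM : p ∣ Nat.card M
  swap
  · rw [Nat.factorization_eq_zero_of_not_dvd hdM]; exact Nat.zero_le _
  have hidx : p ∣ M.index := by
    rw [Subgroup.index_eq_card]; exact hpA.trans A.card_subgroup_dvd_card
  obtain ⟨T⟩ : Nonempty (Sylow p S) := inferInstance
  obtain ⟨Q, hQ⟩ := (T.isPGroup'.map S.subtype).exists_le_sylow
  haveI := hM p hdM hidx Q
  let Tg := (T : Subgroup S).map S.subtype
  have hTM : ¬ Tg ≤ M := by
    intro hle
    have h1 : (T : Subgroup S) ≤ M.subgroupOf S := fun x hx => hle (Subgroup.mem_map_of_mem _ hx)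
    have h2 : (M.subgroupOf S).index = Nat.card A := by
      have h3 := (M.subgroupOf S).card_mul_index
      rw [h.card_eq, mul_comm (Nat.card A)] at h3
      exact Nat.eq_of_mul_eq_mul_left Nat.card_pos h3
    exact T.not_dvd_index (hpA.trans (h2 ▸ Subgroup.index_dvd_of_le h1))
  -- `Q ⊓ M` is contained in `Tg`
  obtain ⟨a, ha⟩ := IsPGroup.iff_card.1 ((T.isPGroup'.map S.subtype))
  obtain ⟨b, hb⟩ := IsPGroup.iff_card.1 (Q.isPGroup'.to_le (inf_le_left : (Q : Subgroup G) ⊓ M ≤ Q))
  have hTQ : Nat.card (Tg.subgroupOf (Q : Subgroup G)) = p ^ a := by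
    rw [Nat.card_congr (Subgroup.subgroupOfEquivOfLe hQ).toEquiv, ha]
  have hMQ : Nat.card (((Q : Subgroup G) ⊓ M).subgroupOf (Q : Subgroup G)) = p ^ b := by
    rw [Nat.card_congr (Subgroup.subgroupOfEquivOfLe inf_le_left).toEquiv, hb]
  have hba : b ≤ a := by
    by_contra hlt
    refine hTM fun x hx => ?_
    have := le_of_card_dvd (C := (Q : Subgroup G)) (H := Tg.subgroupOf Q)
      (K := ((Q : Subgroup G) ⊓ M).subgroupOf Q)
      (by rw [hTQ, hMQ]; exact Nat.pow_dvd_pow p (by omega))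
      (show (⟨x, hQ hx⟩ : (Q : Subgroup G)) ∈ Tg.subgroupOf Q from hx)
    exact this.2
  have hle : (Q : Subgroup G) ⊓ M ≤ Tg := by
    intro x hx
    exact le_of_card_dvd (C := (Q : Subgroup G)) (H := ((Q : Subgroup G) ⊓ M).subgroupOf Q)
      (K := Tg.subgroupOf Q) (by rw [hTQ, hMQ]; exact Nat.pow_dvd_pow p hba)
      (show (⟨x, hx.1⟩ : (Q : Subgroup G)) ∈ ((Q : Subgroup G) ⊓ M).subgroupOf Q from hx)
  -- `Q ⊓ M` is a Sylow subgroup of `M`
  have h1 : p ^ b ∣ Nat.card (M.subgroupOf S) := by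
    rw [← hb]
    exact Subgroup.card_dvd_of_injective
      (MonoidHom.codRestrict
        (MonoidHom.codRestrict ((Q : Subgroup G) ⊓ M).subtype S
          fun x => Subgroup.map_subtype_le _ (hle x.2))
        (M.subgroupOf S) fun x => x.2.2)
      fun x y hxy => Subtype.ext (congrArg (fun t : M.subgroupOf S => ((t : S) : G)) hxy)
  obtain ⟨R⟩ : Nonempty (Sylow p M) := inferInstance
  obtain ⟨Q', hQ'⟩ := (R.isPGroup'.map M.subtype).exists_le_sylow
  obtain ⟨g, rfl⟩ := MulAction.exists_smul_eq G Q Q'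
  have h2 : Nat.card ((R : Subgroup M).map M.subtype) ≤
      Nat.card (((Q : Subgroup G) ⊓ M).map (MulAut.conj g).toMonoidHom) := by
    refine Subgroup.card_le_of_le fun x hx => ?_
    obtain ⟨y, hy, hyx⟩ : x ∈ (Q : Subgroup G).map (MulAut.conj g).toMonoidHom := hQ' hx
    refine ⟨y, ⟨hy, ?_⟩, hyx⟩
    have hxM : x ∈ M := Subgroup.map_subtype_le _ hx
    rw [← hyx] at hxM
    have := Subgroup.Normal.conj_mem ‹M.Normal› _ hxM g⁻¹
    simpa [mul_assoc] using this
  rw [Subgroup.card_subtype, R.card_eq_multiplicity,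
    Subgroup.card_map_of_injective (MulAut.conj g).injective, hb] at h2
  have h3 : (Nat.card M).factorization p ≤ b := (Nat.pow_le_pow_iff_right hp.out.one_lt).1 h2
  refine h3.trans ?_
  exact (hp.out.pow_dvd_iff_le_factorization Nat.card_pos.ne').1 h1

/-- Quotients by `M` inherit the property. -/
theorem conj_quotient (hB : Conj G) (hM : CyclicAbove M) : Conj (G ⧸ M) := by
  intro A B hA hB' hcard
  obtain ⟨S, hS⟩ := exists_lift A
  obtain ⟨T, hT⟩ := exists_lift B
  have h1 : Nat.card (M.subgroupOf S) = Nat.card (M.subgroupOf T) := by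
    refine Nat.eq_of_factorization_eq Nat.card_pos.ne' Nat.card_pos.ne' fun p => ?_
    by_cases hp : p.Prime
    · haveI := Fact.mk hp
      rw [hS.factorization_inf hA hM, hT.factorization_inf hB' hM, hcard]
    · simp [Nat.factorization_eq_zero_of_not_prime _ hp]
  obtain ⟨g, hg⟩ := hB S T (hS.isMulCommutative hA hM) (hT.isMulCommutative hB' hM)
    (by rw [hS.card_eq, hT.card_eq, h1, hcard])
  refine ⟨QuotientGroup.mk' M g, ?_⟩
  rw [← hS.map_eq, ← hT.map_eq, hg, Subgroup.map_map, Subgroup.map_map]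
  congr 1

theorem cyclicAbove_of_odd (hB : Conj G) (hodd : Odd (Nat.card M)) : CyclicAbove M := by
  intro p _ hdM hidx P
  rcases sylow_cases hB P with h | ⟨rfl, -⟩ | h
  · exact h
  · exact absurd (even_iff_two_dvd.2 hdM) (Nat.not_even_iff_odd.2 hodd)
  · exact absurd (hidx.trans (Subgroup.index_dvd_of_le fun x hx => mem_normal_of_pow hB hdM (h x hx)))
      P.not_dvd_index

end Cfsg.Agent.Lib.FiniteGroupStructure.ConjAbelian
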