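/-
Solvable groups in which abelian subgroups of equal order are conjugate: quotients.
-/
import Cfsg.Agent.Lib.FiniteGroupStructure.ConjAbelian

set_option autoImplicit false
set_option linter.unusedSectionVars false
set_option linter.style.haveILetI false

namespace Cfsg.Agent.Lib.FiniteGroupStructure.ConjAbelian

open Cfsg.Agent.Lib
open scoped commutatorElement

universe u

variable {G : Type u} [Group G] [Finite G]

instance fact_two_conjAbelian : Fact (Nat.Prime 2) := ⟨Nat.prime_two⟩

omit [Finite G] in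
theorem le_of_order_four {m : ℕ} [NeZero m] {P : Subgroup G} (e : P ≃* QuaternionGroup m)
    {N : Subgroup G} (hN : ∀ x ∈ P, orderOf x = 4 → x ∈ N) : P ≤ N := by
  have hxa : ∀ i, ((e.symm (QuaternionGroup.xa i) : P) : G) ∈ N := fun i =>
    hN _ (e.symm (QuaternionGroup.xa i)).2
      (by rw [Subgroup.orderOf_coe, MulEquiv.orderOf_eq, QuaternionGroup.orderOf_xa])
  intro x hx
  have hx' : x = ((e.symm (e ⟨x, hx⟩) : P) : G) := by rw [e.symm_apply_apply]
  rw [hx']
  rcases e ⟨x, hx⟩ with i | i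
  · rw [show QuaternionGroup.a i = QuaternionGroup.xa 0 * QuaternionGroup.xa (i - (m : ZMod (2 * m)))
      by rw [QuaternionGroup.xa_mul_xa]; congr 1; ring, map_mul]
    exact N.mul_mem (hxa _) (hxa _)
  · exact hxa i

omit [Finite G] in
/-- The derived subgroup of a quaternion group of order at least 16 has an element of order 4. -/
theorem exists_order_four_mem_commutator {k : ℕ} (hk : 2 ≤ k) {P : Subgroup G}
    (e : P ≃* QuaternionGroup (2 ^ k)) : ∃ c ∈ ⁅P, P⁆, orderOf c = 4 := by
  let q : QuaternionGroup (2 ^ k) := QuaternionGroup.a 1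
  let r : QuaternionGroup (2 ^ k) := QuaternionGroup.xa 0
  have hcomm : ⁅q, r⁆ = q ^ 2 := by
    rw [QuaternionGroup.a_one_pow, commutatorElement_def, mul_inv_eq_iff_eq_mul,
      mul_inv_eq_iff_eq_mul]
    simp only [q, r, QuaternionGroup.a_mul_xa, QuaternionGroup.xa_mul_a]
    congr 1
    push_cast
    ring
  refine ⟨(⁅((e.symm q : P) : G), ((e.symm r : P) : G)⁆) ^ 2 ^ (k - 2), pow_mem
    (Subgroup.commutator_mem_commutator (e.symm q).2 (e.symm r).2) _, ?_⟩
  have h1 : (⁅((e.symm q : P) : G), ((e.symm r : P) : G)⁆) ^ 2 ^ (k - 2) =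
      ((e.symm ((q ^ 2) ^ 2 ^ (k - 2)) : P) : G) := by
    rw [← hcomm, map_pow, map_commutatorElement]; rfl
  rw [h1, Subgroup.orderOf_coe, MulEquiv.orderOf_eq, ← pow_mul, orderOf_pow,
    QuaternionGroup.orderOf_a_one]
  obtain ⟨j, rfl⟩ := Nat.exists_eq_add_of_le hk
  have hdvd : 2 * 2 ^ (2 + j - 2) ∣ 2 * 2 ^ (2 + j) :=
    Nat.mul_dvd_mul_left 2 (Nat.pow_dvd_pow 2 (by omega))
  rw [Nat.gcd_eq_right hdvd, Nat.add_sub_cancel_left, pow_add]
  rw [show 2 * (2 ^ 2 * 2 ^ j) = 4 * (2 * 2 ^ j) by ring,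
    Nat.mul_div_cancel _ (by positivity)]

theorem not_quaternion_of_core_eq_bot (hB : Conj G) (hsol : Group.IsSolvable G)
    (hcore : Cfsg.pPrimeCore 2 G = ⊥) (P : Sylow 2 G) {k : ℕ} (hk : 2 ≤ k) :
    IsEmpty ((P : Subgroup G) ≃* QuaternionGroup (2 ^ k)) := by
  refine ⟨fun e => ?_⟩
  haveI := hsol
  have hcardP : Nat.card (P : Subgroup G) = 4 * 2 ^ k := by
    rw [Nat.card_congr e.toEquiv, TwoGroups.Recognition.natCard_quaternion]
  have h16 : 16 ≤ Nat.card (P : Subgroup G) := by
    rw [hcardP]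
    have : 2 ^ 2 ≤ 2 ^ k := Nat.pow_le_pow_right (by norm_num) hk
    omega
  have hodd : ∀ U : Subgroup G, U.Normal → ¬ 2 ∣ Nat.card U → U = ⊥ := by
    intro U hU h2
    rw [eq_bot_iff, ← hcore]
    haveI := hU
    exact Cores.le_pPrimeCore_of_not_dvd h2
  haveI : Nontrivial G := by
    rw [← Finite.one_lt_card_iff_nontrivial]
    exact lt_of_lt_of_le (by omega) (Subgroup.card_le_card_group (P : Subgroup G))
  obtain ⟨V, hVn, hVne, hVmin⟩ := Cores.MinNormal.exists_minimal (G := G)
  haveI := hVn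
  obtain ⟨hVc, r, hr, hVr⟩ := Cores.MinNormal.elementary_of_solvable hVne hVmin
  haveI := Fact.mk hr
  have hVp : IsPGroup r V := Cores.MinNormal.isPGroup_of_pow_eq_one hVr
  obtain rfl : r = 2 := by
    by_contra hne
    refine hVne (hodd V hVn fun h2 => hne ?_)
    obtain ⟨j, hj⟩ := IsPGroup.iff_card.1 hVp
    rw [hj] at h2
    exact ((Nat.prime_dvd_prime_iff_eq Nat.prime_two hr).1 (Nat.prime_two.dvd_of_dvd_pow h2)).symm
  have hVP : V ≤ (P : Subgroup G) := Cfsg.Agent.S3909.le_sylow_of_normal hVp P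
  have hinv : ∀ s t : G, s ∈ (P : Subgroup G) → t ∈ (P : Subgroup G) → orderOf s = 2 →
      orderOf t = 2 → s = t := by
    intro s t hs ht hso hto
    exact congrArg Subtype.val (TwoGroups.Recognition.invol_unique e
      (s := (⟨s, hs⟩ : (P : Subgroup G))) (t := ⟨t, ht⟩)
      (by rw [Subgroup.orderOf_mk, hso]) (by rw [Subgroup.orderOf_mk, hto]))
  obtain ⟨z, hzV, hz1⟩ := (Subgroup.bot_or_exists_ne_one V).resolve_left hVne
  have hzo : orderOf z = 2 := orderOf_eq_prime (hVr z hzV) hz1
  have hVmem : ∀ v ∈ V, v = 1 ∨ v = z := fun v hv =>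
    or_iff_not_imp_left.2 fun hv1 =>
      hinv v z (hVP hv) (hVP hzV) (orderOf_eq_prime (hVr v hv) hv1) hzo
  have hVcard : Nat.card V ≤ 2 := by
    refine (Subgroup.card_le_of_le (fun v hv => ?_)).trans_eq
      ((Nat.card_zpowers z).trans hzo)
    rcases hVmem v hv with rfl | rfl
    · exact one_mem _
    · exact Subgroup.mem_zpowers _
  have hVcen : ∀ v ∈ V, v ∈ Subgroup.center G := by
    intro v hv
    rw [Subgroup.mem_center_iff]
    intro g
    rcases hVmem v hv with rfl | rfl
    · simp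
    · rcases hVmem _ (hVn.conj_mem _ hv g) with h1 | h1
      · exact absurd (by simpa using h1) hz1
      · exact mul_inv_eq_iff_eq_mul.1 h1
  haveI : Nontrivial (G ⧸ V) := by
    rw [← Finite.one_lt_card_iff_nontrivial, ← Subgroup.index_eq_card]
    by_contra hle
    have h1 := V.card_mul_index
    have h2 : Nat.card V * V.index ≤ 2 * 1 := Nat.mul_le_mul hVcard (not_lt.1 hle)
    have h3 := Subgroup.card_le_card_group (P : Subgroup G)
    omega
  obtain ⟨Ub, hUbn, hUbne, hUbmin⟩ := Cores.MinNormal.exists_minimal (G := G ⧸ V)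
  haveI := hUbn
  haveI : Group.IsSolvable (G ⧸ V) := Group.isSolvable_of_surjective (QuotientGroup.mk'_surjective V)
  obtain ⟨hUbc, s, hs, hUbs⟩ := Cores.MinNormal.elementary_of_solvable hUbne hUbmin
  haveI := Fact.mk hs
  let U : Subgroup G := Ub.comap (QuotientGroup.mk' V)
  haveI : U.Normal := hUbn.comap _
  have hVU : V ≤ U := fun v hv => by
    show QuotientGroup.mk' V v ∈ Ub
    rw [show QuotientGroup.mk' V v = 1 from (QuotientGroup.eq_one_iff v).2 hv]
    exact one_mem _
  let f : U →* Ub := ((QuotientGroup.mk' V).domRestrict U).codRestrict Ub fun x => x.2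
  have hfs : Function.Surjective f := by
    rintro ⟨x, hx⟩
    obtain ⟨g, rfl⟩ := QuotientGroup.mk'_surjective V x
    exact ⟨⟨g, hx⟩, rfl⟩
  have hfk : f.ker ≤ Subgroup.center U := fun x hx => by
    rw [Subgroup.mem_center_iff]
    intro y
    have hxV : (x : G) ∈ V := (QuotientGroup.eq_one_iff _).1 (congrArg Subtype.val hx)
    exact Subtype.ext (Subgroup.mem_center_iff.1 (hVcen x hxV) y)
  have hUbp : IsPGroup s Ub := Cores.MinNormal.isPGroup_of_pow_eq_one hUbs
  haveI : Group.IsNilpotent U := by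
    haveI := hUbp.isNilpotent
    exact Subgroup.isNilpotent_of_ker_le_center f hfk
  have hsdvd : s ∣ Nat.card U := by
    obtain ⟨x, hx, hx1⟩ := (Subgroup.bot_or_exists_ne_one Ub).resolve_left hUbne
    have h1 : s ∣ Nat.card Ub := by
      have := orderOf_dvd_natCard (⟨x, hx⟩ : Ub)
      rwa [Subgroup.orderOf_mk, orderOf_eq_prime (hUbs x hx) hx1] at this
    exact h1.trans (Subgroup.card_dvd_of_surjective f hfs)
  obtain rfl : s = 2 := by
    by_contra hne
    obtain ⟨R⟩ : Nonempty (Sylow s U) := inferInstance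
    haveI hRn : (R : Subgroup U).Normal :=
      R.normal_of_normalizerCondition Group.normalizerCondition_of_isNilpotent
    haveI := R.characteristic_of_normal hRn
    have hR1 := hodd ((R : Subgroup U).map U.subtype) ConjAct.normal_of_characteristic_of_normal
      (by
        obtain ⟨j, hj⟩ := IsPGroup.iff_card.1 (R.isPGroup'.map U.subtype)
        rw [hj]
        exact fun h2 => hne ((Nat.prime_dvd_prime_iff_eq Nat.prime_two hs).1
          (Nat.prime_two.dvd_of_dvd_pow h2)).symm)
    have h1 : Nat.card (R : Subgroup U) = 1 := by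
      rw [← Subgroup.card_subtype, hR1, Subgroup.card_bot]
    exact hs.ne_one (Nat.dvd_one.1 (h1 ▸ R.dvd_card_of_dvd_card hsdvd))
  -- `U` is a normal `2`-subgroup with an element of order 4
  have hUp : IsPGroup 2 U := by
    intro x
    refine ⟨2, Subtype.ext ?_⟩
    have h1 : (x : G) ^ 2 ∈ V := by
      rw [← QuotientGroup.eq_one_iff]
      show QuotientGroup.mk' V ((x : G) ^ 2) = 1
      rw [map_pow]
      exact hUbs _ x.2
    show (x : G) ^ (2 ^ 2) = 1
    rw [pow_succ 2 1, pow_one, pow_mul]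
    exact hVr _ h1
  have hUP : U ≤ (P : Subgroup G) := Cfsg.Agent.S3909.le_sylow_of_normal hUp P
  obtain ⟨x, hxU, hxV⟩ : ∃ x ∈ U, x ∉ V := by
    by_contra hall
    push Not at hall
    refine hUbne (eq_bot_iff.2 fun y hy => ?_)
    obtain ⟨g, rfl⟩ := QuotientGroup.mk'_surjective V y
    exact Subgroup.mem_bot.2 ((QuotientGroup.eq_one_iff g).2 (hall g hy))
  have hx4 : orderOf x = 4 := by
    have hd : orderOf x ∣ 2 ^ 2 := by
      refine orderOf_dvd_of_pow_eq_one ?_
      rw [pow_succ 2 1, pow_one, pow_mul]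
      refine hVr _ ?_
      rw [← QuotientGroup.eq_one_iff]
      show QuotientGroup.mk' V (x ^ 2) = 1
      rw [map_pow]
      exact hUbs _ hxU
    obtain ⟨j, hj, hjx⟩ := (Nat.dvd_prime_pow Nat.prime_two).1 hd
    interval_cases j
    · exact absurd (by rw [pow_zero, orderOf_eq_one_iff] at hjx; exact hjx ▸ V.one_mem) hxV
    · exact absurd (hinv x z (hUP hxU) (hVP hzV) (by simpa using hjx) hzo ▸ hzV) hxV
    · simpa using hjx
  have hPU : (P : Subgroup G) ≤ U := le_of_order_four e fun y _ hy =>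
    mem_normal_of_orderOf_eq hB hxU (hx4.trans hy.symm)
  have hPn : (P : Subgroup G).Normal := by rw [le_antisymm hPU hUP]; infer_instance
  haveI := hPn
  obtain ⟨c, hc, hc4⟩ := exists_order_four_mem_commutator hk e
  have hPD : (P : Subgroup G) ≤ ⁅(P : Subgroup G), (P : Subgroup G)⁆ :=
    le_of_order_four e fun y _ hy => mem_normal_of_orderOf_eq hB hc (hc4.trans hy.symm)
  haveI := P.isPGroup'.isNilpotent
  haveI : Nontrivial (P : Subgroup G) := by
    rw [← Finite.one_lt_card_iff_nontrivial]; omega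
  refine (Group.IsSolvable.commutator_lt_top_of_nontrivial (P : Subgroup G)).ne ?_
  apply Subgroup.map_injective (P : Subgroup G).subtype_injective
  rw [Subgroup.map_subtype_commutator, ← MonoidHom.range_eq_map, Subgroup.range_subtype]
  exact le_antisymm (Subgroup.commutator_le_self _) hPD

omit [Finite G] in
theorem conj_congr {H : Type u} [Group H] (e : G ≃* H) (hB : Conj G) : Conj H := by
  intro A B hA hB' hcard
  obtain ⟨g, hg⟩ := hB (A.comap e.toMonoidHom) (B.comap e.toMonoidHom)
    ⟨⟨fun a b => Subtype.ext (e.injective (by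
      rw [Subgroup.coe_mul, Subgroup.coe_mul, map_mul, map_mul]
      exact congrArg Subtype.val (hA.is_comm.comm (⟨_, a.2⟩ : A) ⟨_, b.2⟩)))⟩⟩
    ⟨⟨fun a b => Subtype.ext (e.injective (by
      rw [Subgroup.coe_mul, Subgroup.coe_mul, map_mul, map_mul]
      exact congrArg Subtype.val (hB'.is_comm.comm (⟨_, a.2⟩ : B) ⟨_, b.2⟩)))⟩⟩
    (by
      rw [Subgroup.comap_equiv_eq_map_symm', Subgroup.comap_equiv_eq_map_symm',
        Subgroup.card_map_of_injective e.symm.injective,
        Subgroup.card_map_of_injective e.symm.injective, hcard])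
  refine ⟨e g, ?_⟩
  have h1 := congrArg (Subgroup.map e.toMonoidHom) hg
  rw [Subgroup.map_comap_eq_self_of_surjective e.surjective] at h1
  rw [h1, Subgroup.map_map]
  conv_rhs => rw [← Subgroup.map_comap_eq_self_of_surjective (f := e.toMonoidHom) e.surjective A,
    Subgroup.map_map]
  congr 1
  exact MonoidHom.ext fun x => by simp

theorem not_quaternion_sixteen (hB : Conj G) (hsol : Group.IsSolvable G) (P : Sylow 2 G) {k : ℕ}
    (hk : 2 ≤ k) : IsEmpty ((P : Subgroup G) ≃* QuaternionGroup (2 ^ k)) := by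
  refine ⟨fun e => ?_⟩
  haveI := hsol
  let O := Cfsg.pPrimeCore 2 G
  have hO : Odd (Nat.card O) :=
    Nat.not_even_iff_odd.1 fun h => Cores.not_dvd_card_pPrimeCore 2 (even_iff_two_dvd.1 h)
  have hq := QuotientGroup.mk'_surjective O
  have hinj : Function.Injective ((QuotientGroup.mk' O).subgroupMap (P : Subgroup G)) := by
    rw [← MonoidHom.ker_eq_bot_iff, eq_bot_iff]
    intro x hx
    have hxO : (x : G) ∈ O := (QuotientGroup.eq_one_iff _).1 (congrArg Subtype.val hx)
    obtain ⟨j, hj⟩ := P.isPGroup' x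
    have h1 : orderOf (x : G) ∣ 2 ^ j := orderOf_dvd_of_pow_eq_one (congrArg Subtype.val hj)
    have h2 : orderOf (x : G) ∣ Nat.card O := by
      have := orderOf_dvd_natCard (⟨_, hxO⟩ : O)
      rwa [Subgroup.orderOf_mk] at this
    exact Subgroup.mem_bot.2 (Subtype.ext (orderOf_eq_one_iff.1 (Nat.eq_one_of_dvd_coprimes
      ((Nat.coprime_two_left.2 hO).pow_left j) h1 h2)))
  let e' := (MulEquiv.ofBijective _ ⟨hinj, (QuotientGroup.mk' O).subgroupMap_surjective _⟩).symm.trans e
  exact (not_quaternion_of_core_eq_bot (conj_quotient hB (cyclicAbove_of_odd hB hO))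
    (Group.isSolvable_of_surjective hq) (Cores.pPrimeCore_quotient_pPrimeCore 2)
    (P.mapSurjective hq) hk).false e'

theorem map_conj_sup (g : G) (A B : Subgroup G) : (A ⊔ B).map (MulAut.conj g).toMonoidHom =
    A.map (MulAut.conj g).toMonoidHom ⊔ B.map (MulAut.conj g).toMonoidHom := Subgroup.map_sup _ _ _

theorem map_conj_mul (c g : G) (A : Subgroup G) :
    (A.map (MulAut.conj g).toMonoidHom).map (MulAut.conj c).toMonoidHom =
      A.map (MulAut.conj (c * g)).toMonoidHom := by
  rw [Subgroup.map_map, map_mul]; rfl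

/-- Quotient by an elementary abelian normal subgroup. -/
theorem conj_quotient_elementary (hB : Conj G) (hsol : Group.IsSolvable G) {V : Subgroup G}
    [hVn : V.Normal] (hVc : IsMulCommutative V) {p : ℕ} [hp : Fact p.Prime]
    (hVp : ∀ v ∈ V, v ^ p = 1) : Conj (G ⧸ V) := by
  obtain ⟨t, ht⟩ := IsPGroup.iff_card.1 (Cores.MinNormal.isPGroup_of_pow_eq_one hVp)
  by_cases hA : CyclicAbove V
  · exact conj_quotient hB hA
  unfold CyclicAbove at hA
  push Not at hA
  obtain ⟨q, hq, hqV, hqi, P, hPnc⟩ := hA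
  obtain rfl : q = p := by
    rw [ht] at hqV
    exact (Nat.prime_dvd_prime_iff_eq hq.out hp.out).1 (hq.out.dvd_of_dvd_pow hqV)
  rcases sylow_cases hB P with h | ⟨rfl, k, hk1, ⟨e⟩⟩ | h
  · exact absurd h hPnc
  swap
  · exact absurd (hqi.trans (Subgroup.index_dvd_of_le fun x hx => mem_normal_of_pow hB hqV (h x hx)))
      P.not_dvd_index
  obtain rfl : k = 1 := by
    by_contra hne
    exact (not_quaternion_sixteen hB hsol P (by omega : 2 ≤ k)).false e
  have hP8 : Nat.card (P : Subgroup G) = 8 := by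
    rw [Nat.card_congr e.toEquiv, TwoGroups.Recognition.natCard_quaternion]
    norm_num
  have hV2 : Nat.card V = 2 := by
    rw [ht]
    rcases Nat.lt_or_ge t 2 with h2 | h2
    · interval_cases t
      · rw [ht, pow_zero] at hqV; exact absurd hqV (by norm_num)
      · norm_num
    · exfalso
      rw [← (Cfsg.Agent.S3909.result hB V).2 2 t h2 ht ⟨hVc, hVp⟩ P] at hqi
      exact P.not_dvd_index hqi
  -- orders of the kernels
  have hker : ∀ {A : Subgroup (G ⧸ V)} {S : Subgroup G}, Lift A S → IsMulCommutative A →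
      Nat.card (V.subgroupOf S) = if 2 ∣ Nat.card A then 2 else 1 := by
    intro A S hS hAc
    split_ifs with h2
    · have h2S : 2 ∣ Nat.card S := by rw [hS.card_eq]; exact h2.mul_right _
      obtain ⟨x, hx⟩ := exists_prime_orderOf_dvd_card' (G := S) 2 h2S
      have hxV : (x : G) ∈ V := mem_normal_of_pow (p := 2) hB (by rw [hV2])
        (by rw [← hx, ← Subgroup.orderOf_coe, pow_orderOf_eq_one])
      have hle : V ≤ S := by
        have heq : Subgroup.zpowers (x : G) = V :=
          Subgroup.eq_of_le_of_card_ge (Subgroup.zpowers_le.2 hxV)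
            (by rw [hV2, Nat.card_zpowers, Subgroup.orderOf_coe, hx])
        exact heq ▸ Subgroup.zpowers_le.2 x.2
      rw [Nat.card_congr (Subgroup.subgroupOfEquivOfLe hle).toEquiv, hV2]
    · have h2S : ¬ 2 ∣ Nat.card S := fun h => h2 (hS.prime_dvd hAc h)
      have hd : Nat.card (V.subgroupOf S) ∣ 2 := hV2 ▸ Subgroup.card_dvd_of_injective
        ((S.subtype.comp (V.subgroupOf S).subtype).codRestrict V fun x => x.2)
        fun a b hab => Subtype.ext (Subtype.ext (congrArg (fun t : V => (t : G)) hab))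
      rcases (Nat.dvd_prime Nat.prime_two).1 hd with h1 | h1
      · exact h1
      · exact absurd (h1 ▸ (V.subgroupOf S).card_subgroup_dvd_card) h2S
  -- odd order parts are commutative
  have hoddc : ∀ {A : Subgroup (G ⧸ V)} {S : Subgroup G}, Lift A S → IsMulCommutative A →
      ∀ N : Subgroup S, ¬ 2 ∣ Nat.card N → IsMulCommutative N := by
    intro A S hS hAc N hN
    refine ⟨⟨fun a b => ?_⟩⟩
    have hcm : ⁅((a : S) : G), ((b : S) : G)⁆ ∈ V := hS.commutator_mem hAc a b
    have h1 : orderOf ⁅((a : S) : G), ((b : S) : G)⁆ ∣ Nat.card N := by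
      have := orderOf_dvd_natCard ⁅a, b⁆
      rw [← Subgroup.orderOf_coe, ← Subgroup.orderOf_coe] at this
      exact this
    have h2 : orderOf ⁅((a : S) : G), ((b : S) : G)⁆ ∣ 2 := by
      have := orderOf_dvd_natCard (⟨_, hcm⟩ : V)
      rwa [Subgroup.orderOf_mk, hV2] at this
    exact Subtype.ext (Subtype.ext (commutatorElement_eq_one_iff_mul_comm.1
      (orderOf_eq_one_iff.1 (Nat.eq_one_of_dvd_coprimes
        (Nat.prime_two.coprime_iff_not_dvd.2 hN).symm h1 h2))))
  have hsmall : ∀ {A : Subgroup (G ⧸ V)} {S : Subgroup G}, Lift A S → IsMulCommutative A →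
      (Nat.card S).factorization 2 ≤ 2 → IsMulCommutative S := by
    intro A S hS hAc hle
    refine comm_of_sylow (hS.isNilpotent hAc) fun r hr R => ?_
    by_cases hr2 : r = 2
    · subst hr2
      have hcR := R.card_eq_multiplicity
      rcases (by omega : (Nat.card S).factorization 2 ≤ 1 ∨ (Nat.card S).factorization 2 = 2) with
        h1 | h1
      · haveI : IsCyclic (R : Subgroup S) := by
          rcases (by omega : (Nat.card S).factorization 2 = 0 ∨ (Nat.card S).factorization 2 = 1) with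
            h0 | h0
          · rw [h0, pow_zero] at hcR
            haveI : Subsingleton (R : Subgroup S) := (Nat.card_eq_one_iff_unique.1 hcR).1
            infer_instance
          · rw [h0, pow_one] at hcR
            exact isCyclic_of_prime_card hcR
        infer_instance
      · rw [h1] at hcR
        exact ⟨⟨IsPGroup.commutative_of_card_eq_prime_sq hcR⟩⟩
    · refine hoddc hS hAc _ fun h2 => hr2 ?_
      obtain ⟨j, hj⟩ := IsPGroup.iff_card.1 R.isPGroup'
      rw [hj] at h2
      exact ((Nat.prime_dvd_prime_iff_eq Nat.prime_two hr.out).1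
        (Nat.prime_two.dvd_of_dvd_pow h2)).symm
  intro A B hAc hBc hcard
  obtain ⟨S, hS⟩ := exists_lift A
  obtain ⟨T, hT⟩ := exists_lift B
  have hST : Nat.card S = Nat.card T := by
    rw [hS.card_eq, hT.card_eq, hker hS hAc, hker hT hBc, hcard]
  suffices hconj : ∃ g : G, T = S.map (MulAut.conj g).toMonoidHom by
    obtain ⟨g, hg⟩ := hconj
    refine ⟨QuotientGroup.mk' V g, ?_⟩
    rw [← hS.map_eq, ← hT.map_eq, hg, Subgroup.map_map, Subgroup.map_map]
    congr 1
  by_cases hle : (Nat.card S).factorization 2 ≤ 2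
  · exact hB S T (hsmall hS hAc hle) (hsmall hT hBc (hST ▸ hle)) hST
  -- both contain Sylow `2`-subgroups of `G`
  have hdata : ∀ {A : Subgroup (G ⧸ V)} {S : Subgroup G}, Lift A S → IsMulCommutative A →
      2 < (Nat.card S).factorization 2 → ∃ (R : Sylow 2 G) (N : Subgroup G), IsMulCommutative N ∧
        (R : Subgroup G) ≤ Subgroup.centralizer (N : Set G) ∧ N ⊔ (R : Subgroup G) = S ∧
        8 * Nat.card N = Nat.card S := by
    intro A S hS hAc hlt
    haveI := hS.isNilpotent hAc
    obtain ⟨R, N, hN, hc⟩ :=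
      Transfer.Frobenius.hasNormalPComplement_of_isNilpotent (p := 2) (G := S)
    haveI := hN
    haveI hRn : (R : Subgroup S).Normal :=
      R.normal_of_normalizerCondition Group.normalizerCondition_of_isNilpotent
    have hR8 : Nat.card ((R : Subgroup S).map S.subtype) = 8 := by
      refine le_antisymm ?_ ?_
      · obtain ⟨Q, hQ⟩ := (R.isPGroup'.map S.subtype).exists_le_sylow
        refine (Subgroup.card_le_of_le hQ).trans ?_
        rw [Q.card_eq_multiplicity, ← P.card_eq_multiplicity, hP8]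
      · rw [Subgroup.card_subtype, R.card_eq_multiplicity]
        calc 8 = 2 ^ 3 := by norm_num
          _ ≤ _ := Nat.pow_le_pow_right (by norm_num) hlt
    let R' : Sylow 2 G := Sylow.ofCard ((R : Subgroup S).map S.subtype)
      (by rw [hR8, ← hP8, P.card_eq_multiplicity])
    have hNodd : ¬ 2 ∣ Nat.card N := by
      rw [← hc.index_eq_card]; exact R.not_dvd_index
    refine ⟨R', N.map S.subtype, ?_, ?_, ?_, ?_⟩
    · refine ⟨⟨?_⟩⟩
      rintro ⟨_, a, ha, rfl⟩ ⟨_, b, hb, rfl⟩
      exact Subtype.ext (congrArg (fun t : N => ((t : S) : G))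
        ((hoddc hS hAc N hNodd).is_comm.comm (⟨a, ha⟩ : N) ⟨b, hb⟩))
    · rintro _ ⟨r, hr, rfl⟩ _ ⟨n, hn, rfl⟩
      exact congrArg Subtype.val
        (Subgroup.commute_of_normal_of_disjoint N (R : Subgroup S) hN hRn hc.disjoint n r hn hr).eq
    · show N.map S.subtype ⊔ (R : Subgroup S).map S.subtype = S
      rw [← Subgroup.map_sup, hc.sup_eq_top, ← MonoidHom.range_eq_map, Subgroup.range_subtype]
    · rw [Subgroup.card_subtype, ← hc.card_mul_card, mul_comm, ← hR8, Subgroup.card_subtype]
  obtain ⟨RS, NS, hNSc, hRS, hSeq, hNS⟩ := hdata hS hAc (not_le.1 hle)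
  obtain ⟨RT, NT, hNTc, hRT, hTeq, hNT⟩ := hdata hT hBc (hST ▸ not_le.1 hle)
  obtain ⟨g, hg⟩ := hB NS NT hNSc hNTc (by omega)
  let C := Subgroup.centralizer (NT : Set G)
  have h1 : ((g • RS : Sylow 2 G) : Subgroup G) ≤ C := by
    intro x hx n hn
    obtain ⟨y, hy, rfl⟩ : x ∈ (RS : Subgroup G).map (MulAut.conj g).toMonoidHom := hx
    rw [hg] at hn
    obtain ⟨m, hm, rfl⟩ := hn
    rw [← map_mul, ← map_mul, hRS hy m hm]
  obtain ⟨c, hc⟩ := MulAction.exists_smul_eq C ((g • RS).subtype h1) (RT.subtype hRT)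
  rw [Sylow.smul_subtype] at hc
  have hc' := Sylow.subtype_injective hc
  refine ⟨(c : G) * g, ?_⟩
  rw [← hTeq, ← hSeq, map_conj_sup]
  congr 1
  · rw [← map_conj_mul, ← hg]
    apply le_antisymm
    · intro n hn
      refine ⟨n, hn, ?_⟩
      show (c : G) * n * (c : G)⁻¹ = n
      rw [← c.2 n hn, mul_inv_cancel_right]
    · rintro _ ⟨n, hn, rfl⟩
      show (c : G) * n * (c : G)⁻¹ ∈ NT
      rw [← c.2 n hn, mul_inv_cancel_right]
      exact hn
  · rw [← map_conj_mul, ← hc']
    rfl

/-- Quotients of solvable groups inherit the property. -/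
theorem conj_quotient_of_solvable {G : Type u} [Group G] [Finite G] (hB : Conj G)
    (hsol : Group.IsSolvable G) (M : Subgroup G) [M.Normal] : Conj (G ⧸ M) := by
  induction hn : Nat.card M using Nat.strong_induction_on generalizing G with
  | _ n ih =>
    haveI := hsol
    by_cases hM : M = ⊥
    · refine conj_quotient hB fun p hp hd => absurd ?_ hp.out.ne_one
      rw [hM, Subgroup.card_bot] at hd
      exact Nat.dvd_one.1 hd
    obtain ⟨V, hVn, hVM, hVne, hVmin⟩ := Cores.MinNormal.exists_minimal_le hM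
    haveI := hVn
    obtain ⟨hVc, p, hp, hVp⟩ := Cores.MinNormal.elementary_of_solvable hVne hVmin
    haveI := Fact.mk hp
    have hq : Conj (G ⧸ V) := conj_quotient_elementary hB hsol hVc hVp
    have hlt : Nat.card (M.map (QuotientGroup.mk' V)) < n := by
      subst hn
      let f := (QuotientGroup.mk' V).domRestrict M
      have h1 := f.ker.card_mul_index
      have hk : f.ker = V.subgroupOf M := by
        ext x
        exact QuotientGroup.eq_one_iff _
      rw [Subgroup.index_ker, MonoidHom.domRestrict_range, hk,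
        Nat.card_congr (Subgroup.subgroupOfEquivOfLe hVM).toEquiv] at h1
      have h2 : 1 < Nat.card V :=
        lt_of_le_of_ne Nat.card_pos (fun h => hVne (Subgroup.card_eq_one.1 h.symm))
      rw [← h1]
      exact lt_mul_of_one_lt_left Nat.card_pos h2
    exact conj_congr (QuotientGroup.quotientQuotientEquivQuotient V M hVM)
      (ih _ hlt hq (Group.isSolvable_of_surjective (QuotientGroup.mk'_surjective V)) _ rfl)

end Cfsg.Agent.Lib.FiniteGroupStructure.ConjAbelian
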