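/-
Conjugacy of all subgroups of equal order: reductions by normal subgroups.
-/
import Mathlib.GroupTheory.SpecificGroups.ZGroup
import Cfsg.Agent.Lib.FiniteGroupStructure.ConjSolvable
import Cfsg.Agent.Lib.Coprime.Conjugacy

set_option autoImplicit false
set_option linter.unusedSectionVars false
set_option linter.style.haveILetI false
set_option linter.dupNamespace false

namespace Cfsg.Agent.Lib.FiniteGroupStructure.EqConj

open Cfsg.Agent.Lib
open scoped Pointwise

universe u

/-- Subgroups of equal order are conjugate. -/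
def EqConj (X : Type u) [Group X] : Prop :=
  ∀ A B : Subgroup X, Nat.card A = Nat.card B → ∃ g : X, B = A.map (MulAut.conj g).toMonoidHom

variable {X : Type u} [Group X] [Finite X]

theorem card_eq_inf_mul_map (A S : Subgroup X) [S.Normal] :
    Nat.card A = Nat.card (A ⊓ S : Subgroup X) * Nat.card (A.map (QuotientGroup.mk' S)) := by
  let f := (QuotientGroup.mk' S).domRestrict A
  have hk : f.ker = S.subgroupOf A := by
    ext x
    exact QuotientGroup.eq_one_iff _
  have h1 := f.ker.card_mul_index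
  rw [Subgroup.index_ker, MonoidHom.domRestrict_range, hk, ← Subgroup.inf_subgroupOf_left S A,
    Nat.card_congr (Subgroup.subgroupOfEquivOfLe (inf_le_left : A ⊓ S ≤ A)).toEquiv] at h1
  exact h1.symm

theorem card_inf_hall {S : Subgroup X} [S.Normal] (hcop : (Nat.card S).Coprime S.index)
    (A : Subgroup X) : Nat.card (A ⊓ S : Subgroup X) = (Nat.card A).gcd (Nat.card S) := by
  have h1 : (Nat.card (A.map (QuotientGroup.mk' S))).Coprime (Nat.card S) := by
    refine (hcop.symm.of_dvd_left ?_)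
    rw [Subgroup.index_eq_card]
    exact Subgroup.card_subgroup_dvd_card _
  rw [card_eq_inf_mul_map A S, Nat.Coprime.gcd_mul_right_cancel _ h1]
  exact (Nat.gcd_eq_left (Subgroup.card_dvd_of_le inf_le_right)).symm

theorem map_conj_inf (g : X) (A S : Subgroup X) [hS : S.Normal] :
    A.map (MulAut.conj g).toMonoidHom ⊓ S = (A ⊓ S).map (MulAut.conj g).toMonoidHom := by
  rw [Subgroup.map_inf _ _ _ (MulAut.conj g).injective,
    show S.map (MulAut.conj g).toMonoidHom = S from by
      ext x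
      refine ⟨?_, fun hx => ⟨g⁻¹ * x * g⁻¹⁻¹, hS.conj_mem x hx g⁻¹, by simp [mul_assoc]⟩⟩
      rintro ⟨y, hy, rfl⟩
      exact hS.conj_mem y hy g]

theorem map_conj_eq {g : X} {D : Subgroup X} (hg : g ∈ Subgroup.normalizer (D : Set X)) :
    D.map (MulAut.conj g).toMonoidHom = D := by
  refine Subgroup.eq_of_le_of_card_ge ?_ (Subgroup.card_map_of_injective (MulAut.conj g).injective).ge
  rintro _ ⟨y, hy, rfl⟩
  exact (Subgroup.mem_normalizer_iff.1 hg y).1 hy

theorem card_conj (g : X) (A : Subgroup X) :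
    Nat.card (A.map (MulAut.conj g).toMonoidHom) = Nat.card A :=
  Subgroup.card_map_of_injective (MulAut.conj g).injective

theorem conj_eq_smul (g : X) (A : Subgroup X) :
    A.map (MulAut.conj g).toMonoidHom = MulAut.conj g • A := rfl

theorem map_mk_conj (g : X) (A S : Subgroup X) [S.Normal] :
    (A.map (MulAut.conj g).toMonoidHom).map (QuotientGroup.mk' S) =
      (A.map (QuotientGroup.mk' S)).map (MulAut.conj (QuotientGroup.mk' S g)).toMonoidHom := by
  rw [Subgroup.map_map, Subgroup.map_map]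
  congr 1

omit [Finite X] in
theorem eqConj_of_subsingleton [Subsingleton X] : EqConj X := fun A B _ =>
  ⟨1, by rw [Subsingleton.elim B (A.map (MulAut.conj (1 : X)).toMonoidHom)]⟩

theorem eqConj_congr {Y : Type u} [Group Y] (e : X ≃* Y) (h : EqConj X) : EqConj Y := by
  intro A B hcard
  obtain ⟨g, hg⟩ := h (A.comap e.toMonoidHom) (B.comap e.toMonoidHom) (by
    rw [Subgroup.comap_equiv_eq_map_symm', Subgroup.comap_equiv_eq_map_symm',
      Subgroup.card_map_of_injective e.symm.injective,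
      Subgroup.card_map_of_injective e.symm.injective, hcard])
  refine ⟨e g, ?_⟩
  have h1 := congrArg (Subgroup.map e.toMonoidHom) hg
  rw [Subgroup.map_comap_eq_self_of_surjective e.surjective] at h1
  rw [h1, Subgroup.map_map]
  conv_rhs => rw [← Subgroup.map_comap_eq_self_of_surjective (f := e.toMonoidHom) e.surjective A,
    Subgroup.map_map]
  congr 1
  exact MonoidHom.ext fun x => by simp

/-- Reduction by a normal subgroup of prime order containing all elements of that order. -/
theorem eqConj_of_prime {V : Subgroup X} [V.Normal] {p : ℕ} [hp : Fact p.Prime]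
    (hV : Nat.card V = p) (hall : ∀ x : X, x ^ p = 1 → x ∈ V) (hq : EqConj (X ⧸ V)) : EqConj X := by
  intro A B hcard
  have key : ∀ C : Subgroup X, p ∣ Nat.card C → V ≤ C := by
    intro C hd
    obtain ⟨x, hx⟩ := exists_prime_orderOf_dvd_card' (G := C) p hd
    have hx' : orderOf (x : X) = p := by rw [Subgroup.orderOf_coe, hx]
    have hxV : (x : X) ∈ V := hall _ (hx' ▸ pow_orderOf_eq_one _)
    have heq : Subgroup.zpowers (x : X) = V :=
      Subgroup.eq_of_le_of_card_ge (Subgroup.zpowers_le.2 hxV) (by rw [hV, Nat.card_zpowers, hx'])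
    exact heq ▸ Subgroup.zpowers_le.2 x.2
  have hinf : ∀ C : Subgroup X, Nat.card (C ⊓ V : Subgroup X) = if p ∣ Nat.card C then p else 1 := by
    intro C
    split_ifs with h
    · rw [inf_eq_right.2 (key C h), hV]
    · have h1 : Nat.card (C ⊓ V : Subgroup X) ∣ p := hV ▸ Subgroup.card_dvd_of_le inf_le_right
      rcases (Nat.dvd_prime hp.out).1 h1 with h2 | h2
      · exact h2
      · exact absurd (h2 ▸ Subgroup.card_dvd_of_le (inf_le_left : C ⊓ V ≤ C)) h
  have hq' : Nat.card (A.map (QuotientGroup.mk' V)) = Nat.card (B.map (QuotientGroup.mk' V)) := by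
    have h1 := card_eq_inf_mul_map A V
    have h2 := card_eq_inf_mul_map B V
    rw [hinf, hcard] at h1
    rw [hinf] at h2
    exact Nat.eq_of_mul_eq_mul_left (by split_ifs <;> [exact hp.out.pos; norm_num]) (h1.symm.trans h2)
  obtain ⟨q, hg⟩ := hq _ _ hq'
  obtain ⟨g, rfl⟩ := QuotientGroup.mk'_surjective V q
  rw [← map_mk_conj] at hg
  let A' := A.map (MulAut.conj g).toMonoidHom
  have hle : A' ≤ B ⊔ V := by
    have := (Subgroup.le_comap_map (QuotientGroup.mk' V) A').trans_eq (congrArg _ hg.symm)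
    rwa [Subgroup.comap_map_eq, QuotientGroup.ker_mk'] at this
  have hcA' : Nat.card A' = Nat.card B := (card_conj g A).trans hcard
  by_cases h : p ∣ Nat.card B
  · rw [sup_eq_left.2 (key B h)] at hle
    exact ⟨g, (Subgroup.eq_of_le_of_card_ge hle hcA'.ge).symm⟩
  · haveI : IsCyclic V := isCyclic_of_prime_card hV
    obtain ⟨k, -, hk⟩ := Coprime.exists_conj_eq_of_coprime (A := B) (B := A') (K := V)
      Subgroup.le_normalizer_of_normal (hV ▸ (hp.out.coprime_iff_not_dvd.2 h).symm)
      (Or.inr inferInstance) hle hcA'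
    refine ⟨k⁻¹ * g, ?_⟩
    have h1 := congrArg (fun T : Subgroup X => (MulAut.conj k⁻¹) • T) hk
    simp only [← mul_smul, ← map_mul, inv_mul_cancel, map_one, one_smul] at h1
    rw [h1, conj_eq_smul]
    show MulAut.conj k⁻¹ • (MulAut.conj g • A) = _
    rw [← mul_smul, ← map_mul]

/-- Reduction by a normal abelian Hall subgroup. -/
theorem eqConj_of_hall {S : Subgroup X} [hSn : S.Normal] (hSc : IsMulCommutative S)
    (hcop : (Nat.card S).Coprime S.index)
    (hS : ∀ D₁ D₂ : Subgroup X, D₁ ≤ S → D₂ ≤ S → Nat.card D₁ = Nat.card D₂ →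
      ∃ g : X, D₂ = D₁.map (MulAut.conj g).toMonoidHom)
    (hK : ∀ D : Subgroup X, D ≤ S →
      EqConj ((Subgroup.normalizer (D : Set X)).map (QuotientGroup.mk' S))) :
    EqConj X := by
  intro A B hcard
  obtain ⟨g₀, hg₀⟩ := hS (A ⊓ S) (B ⊓ S) inf_le_right inf_le_right
    (by rw [card_inf_hall hcop, card_inf_hall hcop, hcard])
  let A₁ := A.map (MulAut.conj g₀).toMonoidHom
  let D := B ⊓ S
  have hA₁D : A₁ ⊓ S = D := (map_conj_inf g₀ A S).trans hg₀.symm
  let K := Subgroup.normalizer (D : Set X)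
  let π := QuotientGroup.mk' S
  have hnorm : ∀ C : Subgroup X, C ⊓ S = D → C ≤ K := by
    intro C hC x hx
    refine Subgroup.mem_normalizer_iff.2 fun y => ?_
    rw [← hC]
    constructor
    · rintro ⟨hy1, hy2⟩
      exact ⟨C.mul_mem (C.mul_mem hx hy1) (C.inv_mem hx), hSn.conj_mem y hy2 x⟩
    · rintro ⟨hy1, hy2⟩
      refine ⟨?_, ?_⟩
      · simpa [mul_assoc] using C.mul_mem (C.mul_mem (C.inv_mem hx) hy1) hx
      · simpa [mul_assoc] using hSn.conj_mem _ hy2 x⁻¹
  have hAK : A₁.map π ≤ K.map π := Subgroup.map_mono (hnorm A₁ hA₁D)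
  have hBK : B.map π ≤ K.map π := Subgroup.map_mono (hnorm B rfl)
  have hcA₁ : Nat.card A₁ = Nat.card B := (card_conj g₀ A).trans hcard
  have hcπ : Nat.card (A₁.map π) = Nat.card (B.map π) := by
    have h1 := card_eq_inf_mul_map A₁ S
    have h2 := card_eq_inf_mul_map B S
    rw [hA₁D, hcA₁] at h1
    exact Nat.eq_of_mul_eq_mul_left Nat.card_pos (h1.symm.trans h2)
  obtain ⟨⟨kb, hkb⟩, hk⟩ := hK D inf_le_right ((A₁.map π).subgroupOf _) ((B.map π).subgroupOf _) (by
    rw [Nat.card_congr (Subgroup.subgroupOfEquivOfLe hAK).toEquiv,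
      Nat.card_congr (Subgroup.subgroupOfEquivOfLe hBK).toEquiv, hcπ])
  obtain ⟨k, hkK, rfl⟩ := hkb
  let A₂ := A₁.map (MulAut.conj k).toMonoidHom
  have hA₂π : A₂.map π = B.map π := by
    have h1 := congrArg (Subgroup.map (K.map π).subtype) hk
    rw [Subgroup.map_map, Subgroup.subgroupOf_map_subtype, inf_eq_left.2 hBK] at h1
    rw [h1, map_mk_conj k A₁ S]
    conv_lhs => rw [← inf_eq_left.2 hAK, ← Subgroup.subgroupOf_map_subtype, Subgroup.map_map]
    congr 1
  have hA₂D : A₂ ⊓ S = D := by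
    rw [map_conj_inf, hA₁D]
    exact map_conj_eq hkK
  -- complements
  have compl : ∀ C : Subgroup X, C ⊓ S = D → ∃ C₀ : Subgroup X, D ⊔ C₀ = C ∧
      (Nat.card C₀).Coprime (Nat.card S) ∧ Nat.card D * Nat.card C₀ = Nat.card C := by
    intro C hC
    haveI : ((C ⊓ S).subgroupOf C).Normal := by
      rw [Subgroup.inf_subgroupOf_left]; infer_instance
    have hi : ((C ⊓ S).subgroupOf C).index = Nat.card (C.map π) := by
      have h1 := ((C ⊓ S).subgroupOf C).card_mul_index
      rw [Nat.card_congr (Subgroup.subgroupOfEquivOfLe (inf_le_left : C ⊓ S ≤ C)).toEquiv] at h1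
      exact Nat.eq_of_mul_eq_mul_left Nat.card_pos (h1.trans (card_eq_inf_mul_map C S))
    have hc : (Nat.card (C.map π)).Coprime (Nat.card S) :=
      hcop.symm.of_dvd_left (by rw [Subgroup.index_eq_card]; exact Subgroup.card_subgroup_dvd_card _)
    obtain ⟨H, hH⟩ := Subgroup.exists_right_complement'_of_coprime
      (N := (C ⊓ S).subgroupOf C) (by
        rw [Nat.card_congr (Subgroup.subgroupOfEquivOfLe (inf_le_left : C ⊓ S ≤ C)).toEquiv, hi]
        exact (hc.of_dvd_right (Subgroup.card_dvd_of_le inf_le_right)).symm)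
    refine ⟨H.map C.subtype, ?_, ?_, ?_⟩
    · rw [← hC]
      conv_rhs => rw [← C.range_subtype, MonoidHom.range_eq_map, ← hH.sup_eq_top, Subgroup.map_sup,
        Subgroup.subgroupOf_map_subtype, inf_eq_left.2 (inf_le_left : C ⊓ S ≤ C)]
    · rw [Subgroup.card_subtype, ← hH.symm.index_eq_card, hi]
      exact hc
    · rw [Subgroup.card_subtype, ← hC,
        ← Nat.card_congr (Subgroup.subgroupOfEquivOfLe (inf_le_left : C ⊓ S ≤ C)).toEquiv]
      exact hH.card_mul_card
  obtain ⟨B₀, hB₀, hB₀c, hB₀m⟩ := compl B rfl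
  obtain ⟨A₀, hA₀, -, hA₀m⟩ := compl A₂ hA₂D
  have hle : A₀ ≤ B₀ ⊔ S := by
    have h1 : A₂ ≤ B ⊔ S := by
      have := (Subgroup.le_comap_map π A₂).trans_eq (congrArg _ hA₂π)
      rwa [Subgroup.comap_map_eq, QuotientGroup.ker_mk'] at this
    calc A₀ ≤ A₂ := hA₀ ▸ le_sup_right
      _ ≤ B ⊔ S := h1
      _ ≤ B₀ ⊔ S := sup_le (hB₀ ▸ sup_le (le_sup_of_le_right inf_le_right) le_sup_left) le_sup_right
  have hcA₀ : Nat.card A₀ = Nat.card B₀ := by
    refine Nat.eq_of_mul_eq_mul_left (Nat.card_pos (α := D)) ?_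
    rw [hA₀m, hB₀m, card_conj, hcA₁]
  haveI := hSc
  obtain ⟨s, hs, hsc⟩ := Coprime.exists_conj_eq_of_coprime (A := B₀) (B := A₀) (K := S)
    Subgroup.le_normalizer_of_normal hB₀c (Or.inr (Group.isSolvable_of_comm fun a b => hSc.is_comm.comm a b)) hle hcA₀
  have hsD : MulAut.conj s • D = D :=
    map_conj_eq (Subgroup.mem_normalizer_iff.2 fun y => by
      constructor
      · intro hy
        rw [show s * y * s⁻¹ = y from by
          rw [show s * y = y * s from
            congrArg Subtype.val (hSc.is_comm.comm (⟨s, hs⟩ : S) ⟨y, hy.2⟩), mul_inv_cancel_right]]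
        exact hy
      · intro hy
        have h1 : s * (s * y * s⁻¹) = (s * y * s⁻¹) * s :=
          congrArg Subtype.val (hSc.is_comm.comm (⟨s, hs⟩ : S) ⟨_, hy.2⟩)
        have h2 : s * y * s⁻¹ = y := by
          rw [inv_mul_cancel_right] at h1
          have h3 : s * y * s⁻¹ = y := mul_left_cancel h1
          exact h3
        rwa [h2] at hy)
  have hfin : A₂ = MulAut.conj s • B := by
    rw [← hA₀, ← hB₀, ← hsc, ← conj_eq_smul, ← conj_eq_smul, Subgroup.map_sup]
    exact congrArg (· ⊔ _) hsD.symm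
  refine ⟨s⁻¹ * k * g₀, ?_⟩
  rw [conj_eq_smul, map_mul, map_mul, mul_smul, mul_smul]
  show B = MulAut.conj s⁻¹ • A₂
  rw [hfin, ← mul_smul, ← map_mul, inv_mul_cancel, map_one, one_smul]

/-- In a finite group with cyclic Sylow subgroups, subgroups of equal order are conjugate. -/
theorem eqConj_of_isZGroup {X : Type u} [Group X] [Finite X] [IsZGroup X] : EqConj X := by
  induction hn : Nat.card X using Nat.strong_induction_on generalizing X with
  | _ n ih =>
    rcases subsingleton_or_nontrivial X with h | h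
    · exact eqConj_of_subsingleton
    obtain ⟨V, hVn, -, hVne, hVmin⟩ := Cores.MinNormal.exists_minimal_le (G := X) (K := ⊤) top_ne_bot
    haveI := hVn
    obtain ⟨hVc, p, hp, hVp⟩ := Cores.MinNormal.elementary_of_solvable hVne hVmin
    haveI := Fact.mk hp
    have hVP : IsPGroup p V := Cores.MinNormal.isPGroup_of_pow_eq_one hVp
    haveI := hVP.isCyclic_of_isZGroup
    have hV : Nat.card V = p := by
      obtain ⟨⟨v, hv⟩, hvg⟩ := (inferInstance : IsCyclic V).exists_ofOrder_eq_natCard
      rw [← hvg, Subgroup.orderOf_mk]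
      refine orderOf_eq_prime (hVp v hv) fun h1 => hVne (Subgroup.card_eq_one.1 ?_)
      rw [← hvg, Subgroup.orderOf_mk, h1, orderOf_one]
    refine eqConj_of_prime hV (fun x hx => ?_) ?_
    · by_cases hx1 : x = 1
      · exact hx1 ▸ V.one_mem
      have hxo := orderOf_eq_prime hx hx1
      obtain ⟨Q, hQ⟩ := (IsPGroup.of_card (p := p) (n := 1)
        (show Nat.card (Subgroup.zpowers x) = p ^ 1 by rw [Nat.card_zpowers, hxo, pow_one])).exists_le_sylow
      have hVQ : V ≤ Q := hVP.le_sylow_of_normal Q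
      exact ConjAbelian.le_of_card_dvd (C := (Q : Subgroup X))
        (H := Subgroup.zpowers ⟨x, hQ (Subgroup.mem_zpowers x)⟩) (K := V.subgroupOf Q)
        (by rw [Nat.card_zpowers, Subgroup.orderOf_mk, hxo,
          Nat.card_congr (Subgroup.subgroupOfEquivOfLe hVQ).toEquiv, hV])
        (Subgroup.mem_zpowers _)
    · subst hn
      refine ih _ ?_ rfl
      rw [← Subgroup.index_eq_card, ← V.card_mul_index, hV]
      exact lt_mul_of_one_lt_left (Nat.pos_of_ne_zero Subgroup.index_ne_zero_of_finite) hp.one_lt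

/-- A group with a normal Sylow subgroup of order eight having a unique involution. -/
theorem eqConj_of_order_eight {Q : Subgroup X} [hQn : Q.Normal] (hQ8 : Nat.card Q = 8)
    (hQi : ¬ 2 ∣ Q.index) {Z : Subgroup X} [Z.Normal] (hZ : Nat.card Z = 2)
    (hinv : ∀ x : X, x ^ 2 = 1 → x ∈ Z)
    (hfour : ∀ C₁ C₂ : Subgroup X, C₁ ≤ Q → C₂ ≤ Q → Nat.card C₁ = 4 → Nat.card C₂ = 4 →
      ∃ g : X, C₂ = C₁.map (MulAut.conj g).toMonoidHom)
    (hodd : ∀ (p : ℕ) [Fact p.Prime], p ≠ 2 → ∀ P : Sylow p X, IsCyclic (P : Subgroup X)) :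
    EqConj X := by
  have hZQ : Z ≤ Q := by
    obtain ⟨x, hx⟩ := exists_prime_orderOf_dvd_card' (G := Q) 2 (hQ8 ▸ by norm_num)
    have hxZ : (x : X) ∈ Z := hinv _ (by rw [← hx, ← Subgroup.orderOf_coe, pow_orderOf_eq_one])
    have heq : Subgroup.zpowers (x : X) = Z := Subgroup.eq_of_le_of_card_ge
      (Subgroup.zpowers_le.2 hxZ) (by rw [hZ, Nat.card_zpowers, Subgroup.orderOf_coe, hx])
    exact heq ▸ Subgroup.zpowers_le.2 x.2
  let π := QuotientGroup.mk' Z
  have hπ := QuotientGroup.mk'_surjective Z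
  haveI : (Q.map π).Normal := hQn.map π hπ
  have hE : Nat.card (Q.map π) = 4 := by
    have h1 : Nat.card Q = Nat.card (Q ⊓ Z : Subgroup X) * Nat.card (Q.map π) :=
      card_eq_inf_mul_map Q Z
    rw [inf_eq_right.2 hZQ, hZ, hQ8] at h1
    omega
  have hEi : (Q.map π).index = Q.index := by
    rw [Subgroup.index_map_eq Q hπ (by rw [QuotientGroup.ker_mk']; exact hZQ)]
  haveI : Fact (Nat.Prime 2) := ⟨Nat.prime_two⟩
  have hEc : IsMulCommutative (Q.map π) := IsPGroup.isMulCommutative_of_card_eq_prime_sq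
    (p := 2) (hE.trans (by norm_num))
  refine eqConj_of_prime hZ hinv (eqConj_of_hall hEc ?_ ?_ ?_)
  · rw [hE, hEi, show 4 = 2 ^ 2 by norm_num]
    exact (Nat.prime_two.coprime_iff_not_dvd.2 hQi).pow_left 2
  · intro D₁ D₂ h₁ h₂ hc
    have hd : Nat.card D₁ ∣ 2 ^ 2 := by
      rw [show (2 : ℕ) ^ 2 = 4 from rfl, ← hE]; exact Subgroup.card_dvd_of_le h₁
    obtain ⟨j, hj, hjc⟩ := (Nat.dvd_prime_pow Nat.prime_two).1 hd
    interval_cases j
    · rw [Subgroup.card_eq_one.1 hjc, Subgroup.card_eq_one.1 (hc.symm.trans hjc)]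
      exact ⟨1, by rw [Subgroup.map_bot]⟩
    · have hcm : ∀ D : Subgroup (X ⧸ Z), D ≤ Q.map π → Nat.card D = 2 →
          D.comap π ≤ Q ∧ Nat.card (D.comap π) = 4 := by
        intro D hD hD2
        refine ⟨fun x hx => ?_, ?_⟩
        · obtain ⟨y, hy, hyx⟩ := hD hx
          have h := Q.mul_mem hy (hZQ ((QuotientGroup.eq).1 hyx))
          rwa [mul_inv_cancel_left] at h
        · have h1 := card_eq_inf_mul_map (D.comap π) Z
          rw [inf_eq_right.2 (le_of_eq_of_le (QuotientGroup.ker_mk' Z).symm (π.ker_le_comap D)), hZ,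
            Subgroup.map_comap_eq_self_of_surjective hπ, hD2] at h1
          omega
      obtain ⟨h1, h1'⟩ := hcm D₁ h₁ (by simpa using hjc)
      obtain ⟨h2, h2'⟩ := hcm D₂ h₂ (by rw [← hc]; simpa using hjc)
      obtain ⟨g, hg⟩ := hfour _ _ h1 h2 h1' h2'
      refine ⟨π g, ?_⟩
      rw [← Subgroup.map_comap_eq_self_of_surjective hπ D₂, hg, map_mk_conj,
        Subgroup.map_comap_eq_self_of_surjective hπ D₁]
    · rw [Subgroup.eq_of_le_of_card_ge h₁ (by rw [hE, hjc]; norm_num),
        Subgroup.eq_of_le_of_card_ge h₂ (by rw [hE, ← hc, hjc]; norm_num)]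
      exact ⟨1, (map_conj_eq (Subgroup.one_mem _)).symm⟩
  · intro D _
    haveI : IsZGroup (X ⧸ Q) := by
      refine ⟨fun p hp P => ?_⟩
      haveI := Fact.mk hp
      obtain ⟨R, rfl⟩ := Sylow.mapSurjective_surjective (QuotientGroup.mk'_surjective Q) p P
      by_cases hp2 : p = 2
      · subst hp2
        obtain ⟨j, hj⟩ := IsPGroup.iff_card.1
          (Sylow.mapSurjective (QuotientGroup.mk'_surjective Q) R).isPGroup'
        have h1 : Nat.card (Sylow.mapSurjective (QuotientGroup.mk'_surjective Q) R :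
            Subgroup (X ⧸ Q)) ∣ Q.index := by
          rw [Subgroup.index_eq_card]; exact Subgroup.card_subgroup_dvd_card _
        rcases j with _ | j
        · rw [pow_zero] at hj
          haveI : Subsingleton (Sylow.mapSurjective (QuotientGroup.mk'_surjective Q) R :
              Subgroup (X ⧸ Q)) := (Nat.card_eq_one_iff_unique.1 hj).1
          infer_instance
        · exact absurd ((dvd_pow_self 2 j.succ_ne_zero).trans (hj ▸ h1)) hQi
      · haveI := hodd p hp2 R
        exact isCyclic_of_surjective _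
          ((QuotientGroup.mk' Q).subgroupMap_surjective (R : Subgroup X))
    haveI : IsZGroup ((X ⧸ Z) ⧸ Q.map π) :=
      IsZGroup.of_injective (QuotientGroup.quotientQuotientEquivQuotient Z Q hZQ).injective
        (f := (QuotientGroup.quotientQuotientEquivQuotient Z Q hZQ).toMonoidHom)
    exact eqConj_of_isZGroup

end Cfsg.Agent.Lib.FiniteGroupStructure.EqConj
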