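/-
In a finite solvable group in which abelian subgroups of equal order are conjugate,
all subgroups of equal order are conjugate.
-/
import Cfsg.Agent.Lib.FiniteGroupStructure.EqConj
import Cfsg.Agent.Lib.Frobenius.FixedPointFree
import Cfsg.Agent.S3742

set_option autoImplicit false
set_option linter.unusedSectionVars false
set_option linter.style.haveILetI false

namespace Cfsg.Agent.Lib.FiniteGroupStructure.ConjAll

open Cfsg.Agent.Lib
open Cfsg.Agent.Lib.FiniteGroupStructure.ConjAbelian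
open Cfsg.Agent.Lib.FiniteGroupStructure.EqConj
open scoped commutatorElement

universe u

section Action

variable {N V : Type u} [Group N] [Finite N] [CommGroup V] [Finite V]

/-- The stabiliser of a vector. -/
def stab (ρ : N →* MulAut V) (a : V) : Subgroup N where
  carrier := {n | ρ n a = a}
  one_mem' := by simp
  mul_mem' {m n} hm hn := by
    show ρ (m * n) a = a
    rw [map_mul, MulAut.mul_apply, show ρ n a = a from hn, show ρ m a = a from hm]
  inv_mem' {n} hn := by
    show ρ n⁻¹ a = a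
    conv_lhs => rw [← show ρ n a = a from hn]
    rw [← MulAut.mul_apply, ← map_mul, inv_mul_cancel, map_one, MulAut.one_apply]

theorem mem_stab {ρ : N →* MulAut V} {a : V} {n : N} : n ∈ stab ρ a ↔ ρ n a = a := Iff.rfl

/-- A noncyclic abelian group has no faithful action with all stabilisers of the same order. -/
theorem stab_absurd (hc : IsMulCommutative N) (hnc : ¬ IsCyclic N) (ρ : N →* MulAut V)
    (hinj : Function.Injective ρ)
    (hcard : ∀ a b : V, a ≠ 1 → b ≠ 1 → Nat.card (stab ρ a) = Nat.card (stab ρ b)) : False := by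
  haveI := hc
  rcases subsingleton_or_nontrivial V with h | h
  · refine hnc ?_
    haveI : Subsingleton N := ⟨fun m n => hinj (MulEquiv.ext fun v => Subsingleton.elim _ _)⟩
    infer_instance
  have hfpf : ¬ Frobenius.IsFPF ρ := fun hf => hnc hf.isCyclic_of_commutative
  unfold Frobenius.IsFPF at hfpf
  push Not at hfpf
  obtain ⟨n, hn1, v, hv, hv1⟩ := hfpf
  by_cases hall : ∀ a : V, a ≠ 1 → stab ρ a = stab ρ v
  · refine hn1 (hinj ?_)
    rw [map_one]
    refine MulEquiv.ext fun a => ?_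
    by_cases ha : a = 1
    · subst ha; simp
    · exact mem_stab.1 ((hall a ha).symm ▸ mem_stab.2 hv)
  push Not at hall
  obtain ⟨a, ha, hab⟩ := hall
  have hav : a * v ≠ 1 := fun h1 => hab (by
    rw [eq_inv_of_mul_eq_one_left h1]
    ext m
    simp [mem_stab])
  have key : stab ρ (a * v) ≤ stab ρ a ⊓ stab ρ v := by
    intro m hm
    have hm' : ρ m a * ρ m v = a * v := by rw [← map_mul]; exact hm
    let c := a⁻¹ * ρ m a
    have hc' : c = v * (ρ m v)⁻¹ := by
      show a⁻¹ * ρ m a = v * (ρ m v)⁻¹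
      rw [eq_mul_inv_iff_mul_eq, mul_assoc, hm', inv_mul_cancel_left]
    have comm : ∀ (x : V) (k : N), ρ k x = x → ρ k (ρ m x) = ρ m x := by
      intro x k hk
      rw [← MulAut.mul_apply, ← map_mul, hc.is_comm.comm k m, map_mul, MulAut.mul_apply, hk]
    have h1 : stab ρ a ≤ stab ρ c := fun k hk => by
      rw [mem_stab] at hk ⊢
      show ρ k (a⁻¹ * ρ m a) = _
      rw [map_mul, map_inv, hk, comm a k hk]
    have h2 : stab ρ v ≤ stab ρ c := fun k hk => by
      rw [mem_stab] at hk ⊢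
      rw [hc', map_mul, map_inv, hk, comm v k hk]
    have hc1 : c = 1 := by
      by_contra hne
      exact hab ((Subgroup.eq_of_le_of_card_ge h1 (hcard c a hne ha).le).trans
        (Subgroup.eq_of_le_of_card_ge h2 (hcard c v hne hv1).le).symm)
    exact ⟨(inv_mul_eq_one.1 hc1).symm, (mul_inv_eq_one.1 (hc' ▸ hc1)).symm⟩
  exact hab ((Subgroup.eq_of_le_of_card_ge (key.trans inf_le_left) (hcard a (a * v) ha hav).le).symm.trans
    (Subgroup.eq_of_le_of_card_ge (key.trans inf_le_right) (hcard v (a * v) hv1 hav).le))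

/-- An automorphism fixing all lines is a scalar. -/
theorem scalar_of_lines {p : ℕ} [hp : Fact p.Prime] (hexp : ∀ v : V, v ^ p = 1) (σ : MulAut V)
    (h : ∀ v : V, σ v ∈ Subgroup.zpowers v) : ∃ i : ℤ, ∀ v : V, σ v = v ^ i := by
  by_cases hV : ∀ v : V, v = 1
  · exact ⟨0, fun v => by rw [hV v, map_one, one_zpow]⟩
  push Not at hV
  obtain ⟨v, hv⟩ := hV
  obtain ⟨i, hi⟩ := Subgroup.mem_zpowers_iff.1 (h v)
  refine ⟨i, fun w => ?_⟩
  by_cases hw : w ∈ Subgroup.zpowers v
  · obtain ⟨j, rfl⟩ := Subgroup.mem_zpowers_iff.1 hw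
    rw [map_zpow, ← hi, ← zpow_mul, ← zpow_mul, mul_comm]
  obtain ⟨a, ha⟩ := Subgroup.mem_zpowers_iff.1 (h w)
  obtain ⟨c, hc⟩ := Subgroup.mem_zpowers_iff.1 (h (w * v))
  rw [map_mul, ← ha, ← hi, mul_zpow] at hc
  have h1 : w ^ (c - a) = v ^ (i - c) := by
    rw [zpow_sub, zpow_sub, mul_inv_eq_iff_eq_mul, mul_comm (v ^ i), mul_assoc,
      eq_inv_mul_iff_mul_eq, mul_comm (v ^ c), hc, mul_comm]
  have hw1 : w ≠ 1 := fun h' => hw (h' ▸ Subgroup.one_mem _)
  have h2 : w ^ (c - a) = 1 := by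
    by_contra hne
    apply hw
    have hmem : w ^ (c - a) ∈ Subgroup.zpowers v := h1 ▸ zpow_mem (Subgroup.mem_zpowers v) _
    have hzw : w ∈ Subgroup.zpowers (w ^ (c - a)) := by
      haveI : Fact (Nat.card (Subgroup.zpowers w)).Prime :=
        ⟨by rw [Nat.card_zpowers, orderOf_eq_prime (hexp w) hw1]; exact hp.out⟩
      have := Subgroup.eq_of_le_of_card_ge
        (Subgroup.zpowers_le.2 (zpow_mem (Subgroup.mem_zpowers w) (c - a))) (by
          rw [Nat.card_zpowers, Nat.card_zpowers, orderOf_eq_prime (hexp _) hne,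
            orderOf_eq_prime (hexp w) hw1])
      rw [this]; exact Subgroup.mem_zpowers w
    exact Subgroup.zpowers_le.2 hmem hzw
  have h3 : v ^ (i - c) = 1 := h1 ▸ h2
  have hov : orderOf v = p := orderOf_eq_prime (hexp v) hv
  have hd1 : (p : ℤ) ∣ i - c := hov ▸ orderOf_dvd_iff_zpow_eq_one.2 h3
  have how : orderOf w = p := orderOf_eq_prime (hexp w) hw1
  have hd2 : (p : ℤ) ∣ c - a := how ▸ orderOf_dvd_iff_zpow_eq_one.2 h2
  have hd3 : (orderOf w : ℤ) ∣ i - a := by
    rw [how, show i - a = (i - c) + (c - a) by ring]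
    exact dvd_add hd1 hd2
  rw [← ha]
  exact (orderOf_dvd_sub_iff_zpow_eq_zpow.1 hd3).symm

end Action

variable {G : Type u} [Group G] [Finite G]

theorem mem_pCore_of_mem_fitting {q : ℕ} [hq : Fact q.Prime] {x : G}
    (hx : x ∈ Cfsg.fittingSubgroup G) {k : ℕ} (hk : x ^ q ^ k = 1) : x ∈ Cfsg.pCore q G := by
  let F := Cfsg.fittingSubgroup G
  haveI : Group.IsNilpotent F := Cores.fittingSubgroup_isNilpotent
  haveI : F.Normal := Cores.fittingSubgroup_normal
  obtain ⟨T, hT⟩ := (IsPGroup.of_card_dvd_pow (p := q) (n := k)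
    (show Nat.card (Subgroup.zpowers (⟨x, hx⟩ : F)) ∣ q ^ k by
      rw [Nat.card_zpowers, Subgroup.orderOf_mk]; exact orderOf_dvd_of_pow_eq_one hk)).exists_le_sylow
  haveI hTn : (T : Subgroup F).Normal :=
    T.normal_of_normalizerCondition Group.normalizerCondition_of_isNilpotent
  haveI := T.characteristic_of_normal hTn
  haveI : ((T : Subgroup F).map F.subtype).Normal := ConjAct.normal_of_characteristic_of_normal
  exact Cores.le_pCore (T.isPGroup'.map F.subtype) ⟨_, hT (Subgroup.mem_zpowers _), rfl⟩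

/-- A subgroup is generated by its elements of prime power order. -/
theorem le_of_forall_prime {D T : Subgroup G}
    (h : ∀ (q : ℕ) [Fact q.Prime], ∀ x ∈ D, (∃ k : ℕ, x ^ q ^ k = 1) → x ∈ T) : D ≤ T := by
  refine Subgroup.subgroupOf_eq_top.1 (Subgroup.index_eq_one.1
    (Nat.eq_one_iff_not_exists_prime_dvd.2 fun q hq hd => ?_))
  haveI := Fact.mk hq
  obtain ⟨P⟩ : Nonempty (Sylow q D) := inferInstance
  refine P.not_dvd_index (hd.trans (Subgroup.index_dvd_of_le fun x hx => ?_))
  obtain ⟨k, hk⟩ := P.isPGroup' ⟨x, hx⟩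
  exact h q x x.2 ⟨k, congrArg (fun t : (P : Subgroup D) => ((t : D) : G)) hk⟩

omit [Finite G] in
theorem mem_normalizer_of_map_eq {g : G} {D : Subgroup G}
    (h : D.map (MulAut.conj g).toMonoidHom = D) : g ∈ Subgroup.normalizer (D : Set G) := by
  refine Subgroup.mem_normalizer_iff.2 fun y => ⟨fun hy => h ▸ ⟨y, hy, rfl⟩, fun hy => ?_⟩
  obtain ⟨y', hy', he⟩ : g * y * g⁻¹ ∈ D.map (MulAut.conj g).toMonoidHom := h.symm ▸ hy
  have : y' = y := (MulAut.conj g).injective he
  exact this ▸ hy'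

theorem quaternion_facts {P : Subgroup G} (e : P ≃* QuaternionGroup (2 ^ 1)) :
    ∃ z ∈ P, orderOf z = 2 ∧ (∀ x ∈ P, x ^ 2 = 1 → x = 1 ∨ x = z) ∧ (∀ x ∈ P, x ^ 4 = 1) ∧
      Nat.card P = 8 := by
  have hd : ∀ q : QuaternionGroup (2 ^ 1), q ^ 2 = 1 → q = 1 ∨ q = QuaternionGroup.a 2 := by decide
  have hd4 : ∀ q : QuaternionGroup (2 ^ 1), q ^ 4 = 1 := by decide
  have ho : orderOf (QuaternionGroup.a 2 : QuaternionGroup (2 ^ 1)) = 2 :=
    orderOf_eq_prime (by decide) (by decide)
  refine ⟨(e.symm (QuaternionGroup.a 2) : P), (e.symm _).2,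
    by rw [Subgroup.orderOf_coe, MulEquiv.orderOf_eq, ho], fun x hx hx2 => ?_, fun x hx => ?_, ?_⟩
  · have h1 : (e ⟨x, hx⟩) ^ 2 = 1 := by
      rw [← map_pow, show (⟨x, hx⟩ : P) ^ 2 = 1 from Subtype.ext hx2, map_one]
    rcases hd _ h1 with h2 | h2
    · left
      exact congrArg Subtype.val (e.injective (h2.trans (map_one e).symm))
    · right
      rw [← h2, e.symm_apply_apply]
  · have h1 : e ((⟨x, hx⟩ : P) ^ 4) = e 1 := by rw [map_pow, hd4, map_one]
    exact congrArg Subtype.val (e.injective h1)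
  · rw [Nat.card_congr e.toEquiv, TwoGroups.Recognition.natCard_quaternion]
    norm_num

theorem orderOf_eq_four {x : G} (h2 : x ^ 2 ≠ 1) (h4 : x ^ 4 = 1) : orderOf x = 4 :=
  orderOf_eq_prime_pow (p := 2) (n := 1) (by simpa using h2) (by simpa using h4)

theorem pCore_cases (hB : Conj G) (hsol : Group.IsSolvable G)
    (hN : ∀ N : Subgroup G, N.Normal → IsMulCommutative N →
      (∃ r : ℕ, r.Prime ∧ ∀ x ∈ N, x ^ r = 1) → IsCyclic N)
    (q : ℕ) [hq : Fact q.Prime] (P : Sylow q G) :
    IsCyclic (Cfsg.pCore q G) ∨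
      (Cfsg.pCore q G = P ∧ q = 2 ∧ Nonempty ((P : Subgroup G) ≃* QuaternionGroup (2 ^ 1))) := by
  have hle := Cores.pCore_le_sylow (p := q) P
  rcases sylow_cases hB P with h | ⟨rfl, k, hk1, ⟨e⟩⟩ | h
  · exact Or.inl (Subgroup.isCyclic_of_le hle)
  · obtain rfl : k = 1 := by
      by_contra hne
      exact (not_quaternion_sixteen hB hsol P (by omega : 2 ≤ k)).false e
    by_cases h4 : ∃ x ∈ Cfsg.pCore 2 G, orderOf x = 4
    · obtain ⟨x, hx, hx4⟩ := h4
      exact Or.inr ⟨le_antisymm hle (le_of_order_four e fun y _ hy =>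
        mem_normal_of_orderOf_eq hB hx (hx4.trans hy.symm)), rfl, ⟨e⟩⟩
    · left
      obtain ⟨z, hzP, hz, hinv, h4P, -⟩ := quaternion_facts e
      haveI : IsCyclic (Subgroup.zpowers z) := inferInstance
      refine Subgroup.isCyclic_of_le (H' := Subgroup.zpowers z) fun x hx => ?_
      have hx2 : x ^ 2 = 1 := by
        by_contra hne
        exact h4 ⟨x, hx, orderOf_eq_four hne (h4P x (hle hx))⟩
      rcases hinv x (hle hx) hx2 with rfl | rfl
      · exact Subgroup.one_mem _
      · exact Subgroup.mem_zpowers _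
  · left
    by_cases hbot : Cfsg.pCore q G = ⊥
    · rw [hbot]; infer_instance
    haveI := hsol
    obtain ⟨M, hMn, hMle, hMne, hMmin⟩ := Cores.MinNormal.exists_minimal_le hbot
    haveI := hMn
    obtain ⟨hMc, r, hr, hMr⟩ := Cores.MinNormal.elementary_of_solvable hMne hMmin
    obtain ⟨m, hm, hm1⟩ := (Subgroup.bot_or_exists_ne_one M).resolve_left hMne
    have hmo : orderOf m = q := orderOf_eq_prime (h m (hle (hMle hm))) hm1
    have hdvd : q ∣ Nat.card M := by
      rw [← hmo, ← Subgroup.orderOf_mk (H := M) m hm]; exact orderOf_dvd_natCard _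
    haveI := hN M hMn hMc ⟨r, hr, hMr⟩
    exact Subgroup.isCyclic_of_le fun x hx => mem_normal_of_pow hB hdvd (h x (hle hx))

/-- Commutators centralise cyclic normal subgroups. -/
theorem commute_of_mem_commutator {C : Subgroup G} [C.Normal] [IsCyclic C] {x c : G}
    (hx : x ∈ commutator G) (hc : c ∈ C) : c * x = x * c := by
  have hcomm : IsMulCommutative (MulAut C) :=
    ⟨⟨fun a b => (IsCyclic.mulAutMulEquiv C).injective (by rw [map_mul, map_mul, mul_comm])⟩⟩
  have h1 : commutator G ≤ (MulAut.conjNormal : G →* MulAut C).ker := by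
    rw [commutator_def, Subgroup.commutator_le]
    intro a _ b _
    rw [MonoidHom.mem_ker, map_commutatorElement, commutatorElement_eq_one_iff_mul_comm]
    exact hcomm.is_comm.comm _ _
  have h2 : (MulAut.conjNormal x : MulAut C) ⟨c, hc⟩ = ⟨c, hc⟩ := by
    rw [MonoidHom.mem_ker.1 (h1 hx), MulAut.one_apply]
  have h3 : x * c * x⁻¹ = c := congrArg Subtype.val h2
  exact (mul_inv_eq_iff_eq_mul.1 h3).symm

/-- Sylow subgroups when no normal elementary abelian subgroup is noncyclic. -/
theorem sylow_structure (hB : Conj G) (hsol : Group.IsSolvable G)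
    (hN : ∀ N : Subgroup G, N.Normal → IsMulCommutative N →
      (∃ r : ℕ, r.Prime ∧ ∀ x ∈ N, x ^ r = 1) → IsCyclic N)
    {r : ℕ} [hr : Fact r.Prime] (R : Sylow r G) :
    IsCyclic (R : Subgroup G) ∨ (r = 2 ∧ (R : Subgroup G).Normal ∧
      Nonempty ((R : Subgroup G) ≃* QuaternionGroup (2 ^ 1))) := by
  classical
  by_contra hcon
  push Not at hcon
  obtain ⟨hRnc, hcon⟩ := hcon
  haveI := hsol
  have hcent : ∀ x : G, (∀ (q : ℕ) [Fact q.Prime], ∀ c ∈ Cfsg.pCore q G, c * x = x * c) →
      x ∈ Cfsg.fittingSubgroup G := by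
    intro x hx
    refine Cores.centralizer_fittingSubgroup_le ?_
    rw [Cores.fittingSubgroup_eq_iSup_pCore]
    have h1 : (⨆ q : Nat.Primes, Cfsg.pCore (q : ℕ) G) ≤ Subgroup.centralizer {x} :=
      iSup_le fun q c hc => by
        haveI : Fact (q : ℕ).Prime := ⟨q.2⟩
        rw [Subgroup.mem_centralizer_iff]
        rintro y rfl
        exact (hx (q : ℕ) c hc).symm
    intro c hc
    exact (Subgroup.mem_centralizer_iff.1 (h1 hc) x rfl).symm
  have hcore : IsCyclic (Cfsg.pCore r G) := by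
    rcases pCore_cases hB hsol hN r R with h | ⟨h1, rfl, h3⟩
    · exact h
    · exact absurd h3 (not_nonempty_iff.2 (hcon rfl (h1 ▸ inferInstance)))
  rcases sylow_cases hB R with h | ⟨rfl, k, hk1, ⟨e⟩⟩ | hexp
  · exact hRnc h
  · obtain rfl : k = 1 := by
      by_contra hne
      exact (not_quaternion_sixteen hB hsol R (by omega : 2 ≤ k)).false e
    obtain ⟨z, hzR, hz, hinv, h4R, hR8⟩ := quaternion_facts e
    -- all cores are cyclic
    have hcyc : ∀ (q : ℕ) [Fact q.Prime], IsCyclic (Cfsg.pCore q G) := by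
      intro q _
      obtain ⟨T⟩ : Nonempty (Sylow q G) := inferInstance
      rcases pCore_cases hB hsol hN q T with h | ⟨-, rfl, -⟩
      · exact h
      · exact hcore
    have hno4 : ∀ x ∈ Cfsg.pCore 2 G, orderOf x ≠ 4 := by
      intro x hx hx4
      refine hRnc ?_
      haveI := hcore
      exact Subgroup.isCyclic_of_le
        (le_of_order_four e fun y _ hy => mem_normal_of_orderOf_eq hB hx (hx4.trans hy.symm))
    obtain ⟨x, hxR, hx2⟩ : ∃ x ∈ (R : Subgroup G), x ^ 2 ≠ 1 := by
      by_contra hall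
      push Not at hall
      have hle : (R : Subgroup G) ≤ Subgroup.zpowers z := fun y hy => by
        rcases hinv y hy (hall y hy) with rfl | rfl
        exacts [Subgroup.one_mem _, Subgroup.mem_zpowers _]
      have := Subgroup.card_le_of_le hle
      rw [hR8, Nat.card_zpowers, hz] at this
      omega
    have hxo := orderOf_eq_four hx2 (h4R x hxR)
    have hxz : x ^ 2 = z := (hinv _ ((R : Subgroup G).pow_mem hxR 2)
      (by rw [← pow_mul]; exact h4R x hxR)).resolve_left hx2
    have hsmall : ∀ y ∈ (R : Subgroup G), y ^ 2 = 1 → y ∈ Subgroup.zpowers x := fun y hy hy2 => by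
      rcases hinv y hy hy2 with rfl | rfl
      exacts [Subgroup.one_mem _, hxz ▸ pow_mem (Subgroup.mem_zpowers x) 2]
    obtain ⟨y, hyR, hyx⟩ : ∃ y ∈ (R : Subgroup G), y ∉ Subgroup.zpowers x := by
      by_contra hall
      push Not at hall
      have := Subgroup.card_le_of_le (show (R : Subgroup G) ≤ Subgroup.zpowers x from hall)
      rw [hR8, Nat.card_zpowers, hxo] at this
      omega
    have hyo := orderOf_eq_four (fun h => hyx (hsmall y hyR h)) (h4R y hyR)
    obtain ⟨g, hg⟩ := hB (Subgroup.zpowers x) (Subgroup.zpowers y) inferInstance inferInstance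
      (by rw [Nat.card_zpowers, Nat.card_zpowers, hxo, hyo])
    let w := g * x * g⁻¹
    have hwy : Subgroup.zpowers w = Subgroup.zpowers y := by
      rw [hg, MonoidHom.map_zpowers]; rfl
    have hwR : w ∈ (R : Subgroup G) :=
      Subgroup.zpowers_le.2 hyR (hwy ▸ Subgroup.mem_zpowers w)
    have hc : w * x⁻¹ ∈ commutator G := by
      have := Subgroup.commutator_mem_commutator (Subgroup.mem_top g) (Subgroup.mem_top x)
      rw [← commutator_def] at this
      exact this
    have hcR : w * x⁻¹ ∈ (R : Subgroup G) := mul_mem hwR (inv_mem hxR)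
    have hcF : w * x⁻¹ ∈ Cfsg.pCore 2 G := by
      refine mem_pCore_of_mem_fitting (hcent _ fun q _ c hc' => ?_) (k := 2) (h4R _ hcR)
      haveI := hcyc q
      exact commute_of_mem_commutator hc hc'
    have hc2 : (w * x⁻¹) ^ 2 = 1 := by
      by_contra hne
      exact hno4 _ hcF (orderOf_eq_four hne (h4R _ hcR))
    refine hyx (Subgroup.zpowers_le.2 (?_ : w ∈ Subgroup.zpowers x) (hwy ▸ Subgroup.mem_zpowers y))
    simpa using mul_mem (hsmall _ hcR hc2) (Subgroup.mem_zpowers x)
  · -- exponent `r`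
    have hbot : Cfsg.pCore r G = ⊥ := by
      by_contra hne
      obtain ⟨m, hm, hm1⟩ := (Subgroup.bot_or_exists_ne_one _).resolve_left hne
      have hdvd : r ∣ Nat.card (Cfsg.pCore r G) := by
        have hmo : orderOf m = r := orderOf_eq_prime (hexp m (Cores.pCore_le_sylow R hm)) hm1
        have h1 := orderOf_dvd_natCard (⟨m, hm⟩ : Cfsg.pCore r G)
        rwa [Subgroup.orderOf_mk, hmo] at h1
      haveI := hcore
      exact hRnc (Subgroup.isCyclic_of_le fun x hx => mem_normal_of_pow hB hdvd (hexp x hx))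
    by_cases hRD : ∃ x ∈ (R : Subgroup G), x ≠ 1 ∧ x ∈ commutator G
    · obtain ⟨x₀, hx₀, hx₀1, hx₀D⟩ := hRD
      have hle : (R : Subgroup G) ≤ commutator G := fun x hx => by
        by_cases hx1 : x = 1
        · exact hx1 ▸ Subgroup.one_mem _
        · exact mem_normal_of_orderOf_eq hB hx₀D
            ((orderOf_eq_prime (hexp _ hx₀) hx₀1).trans (orderOf_eq_prime (hexp _ hx) hx1).symm)
      have hfin : ∀ x ∈ (R : Subgroup G),
          (∀ (q : ℕ) [Fact q.Prime], ∀ c ∈ Cfsg.pCore q G, c * x = x * c) → x = 1 := by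
        intro x hx h
        have := mem_pCore_of_mem_fitting (hcent x h) (k := 1) (by simpa using hexp x hx)
        rwa [hbot, Subgroup.mem_bot] at this
      by_cases h2 : IsCyclic (Cfsg.pCore 2 G)
      · refine hx₀1 (hfin x₀ hx₀ fun q _ c hc => ?_)
        have : IsCyclic (Cfsg.pCore q G) := by
          obtain ⟨T⟩ : Nonempty (Sylow q G) := inferInstance
          rcases pCore_cases hB hsol hN q T with h | ⟨-, rfl, -⟩
          exacts [h, h2]
        exact commute_of_mem_commutator hx₀D hc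
      · obtain ⟨T⟩ : Nonempty (Sylow 2 G) := inferInstance
        obtain ⟨hT, -, ⟨e⟩⟩ := (pCore_cases hB hsol hN 2 T).resolve_left h2
        let φ : (R : Subgroup G) →* MulAut (Cfsg.pCore 2 G) :=
          MulAut.conjNormal.comp (R : Subgroup G).subtype
        obtain ⟨x, hx, hx1⟩ : ∃ x, φ x = 1 ∧ x ≠ 1 := by
          by_contra hall
          push Not at hall
          have hinj : Function.Injective φ := (injective_iff_map_eq_one φ).2 hall
          obtain ⟨e₂⟩ := Cfsg.Agent.S3742.result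
          let e₁ : Cfsg.pCore 2 G ≃* QuaternionGroup 2 :=
            (MulEquiv.subgroupCongr hT).trans e
          have h24 : Nat.card (MulAut (Cfsg.pCore 2 G)) = 24 := by
            rw [Nat.card_congr (MulAut.congr e₁).toEquiv, Nat.card_congr e₂.toEquiv, Nat.card_perm,
              Nat.card_fin]
            rfl
          have hd := h24 ▸ Subgroup.card_dvd_of_injective φ hinj
          obtain ⟨j, hj⟩ := IsPGroup.iff_card.1 R.isPGroup'
          have hj2 : 2 ≤ j := by
            by_contra hlt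
            refine hRnc ?_
            rcases (by omega : j = 0 ∨ j = 1) with rfl | rfl
            · rw [pow_zero] at hj
              haveI : Subsingleton (R : Subgroup G) := (Nat.card_eq_one_iff_unique.1 hj).1
              infer_instance
            · rw [pow_one] at hj
              exact isCyclic_of_prime_card hj
          have hr2 : r ^ 2 ∣ 24 := (Nat.pow_dvd_pow r hj2).trans (hj ▸ hd)
          have hr4 : r ≤ 4 := by nlinarith [Nat.le_of_dvd (by norm_num) hr2]
          have := hr.out.two_le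
          interval_cases r
          · exact h2 (hbot ▸ inferInstance)
          · omega
          · exact absurd hr.out (by norm_num)
        refine hx1 (Subtype.ext (hfin x x.2 fun q _ c hc => ?_))
        obtain ⟨U⟩ : Nonempty (Sylow q G) := inferInstance
        rcases pCore_cases hB hsol hN q U with h | ⟨-, rfl, -⟩
        · exact commute_of_mem_commutator (hle x.2) hc
        · have h3 : (x : G) * c * (x : G)⁻¹ = c :=
            congrArg (fun σ : MulAut (Cfsg.pCore 2 G) => ((σ ⟨c, hc⟩ : Cfsg.pCore 2 G) : G)) hx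
          exact (mul_inv_eq_iff_eq_mul.1 h3).symm
    · push Not at hRD
      refine hRnc ?_
      rcases subsingleton_or_nontrivial (R : Subgroup G) with h | h
      · infer_instance
      obtain ⟨⟨x, hx⟩, hx1⟩ := exists_ne (1 : (R : Subgroup G))
      have hx1' : x ≠ 1 := fun h => hx1 (Subtype.ext h)
      refine Subgroup.isCyclic_of_le (H' := Subgroup.zpowers x) fun y hy => ?_
      by_cases hy1 : y = 1
      · exact hy1 ▸ Subgroup.one_mem _
      obtain ⟨g, hg⟩ := hB (Subgroup.zpowers x) (Subgroup.zpowers y) inferInstance inferInstance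
        (by rw [Nat.card_zpowers, Nat.card_zpowers, orderOf_eq_prime (hexp _ hx) hx1',
          orderOf_eq_prime (hexp _ hy) hy1])
      rw [MonoidHom.map_zpowers] at hg
      obtain ⟨i, hi⟩ := Subgroup.mem_zpowers_iff.1 (hg ▸ Subgroup.mem_zpowers y)
      refine Subgroup.mem_zpowers_iff.2 ⟨i, ?_⟩
      have h1 : Abelianization.of y = Abelianization.of (x ^ i) := by
        rw [← hi, map_zpow, map_zpow]
        show Abelianization.of (g * x * g⁻¹) ^ i = _
        rw [map_mul, map_mul, map_inv, mul_inv_cancel_comm]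
      have h2 : (x ^ i)⁻¹ * y ∈ commutator G := by
        rw [← Abelianization.ker_of, MonoidHom.mem_ker, map_mul, map_inv, h1, inv_mul_cancel]
      exact inv_mul_eq_one.1 (by_contra fun hne =>
        hRD _ ((R : Subgroup G).mul_mem (inv_mem (zpow_mem hx i)) hy) hne h2)

theorem isMulCommutative_of_le {D S : Subgroup G} (hS : IsMulCommutative S) (h : D ≤ S) :
    IsMulCommutative D :=
  ⟨⟨fun a b => Subtype.ext (congrArg Subtype.val (hS.is_comm.comm ⟨a, h a.2⟩ ⟨b, h b.2⟩) :)⟩⟩

open scoped IsMulCommutative in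
/-- The main step: no normal subgroup of prime order. -/
theorem eqConj_of_elementary (hB : Conj G) (hsol : Group.IsSolvable G)
    (hV : ∀ (p : ℕ) [Fact p.Prime], Cfsg.pCore p G = ⊥ ∨
      (IsMulCommutative (Cfsg.pCore p G) ∧ (∀ v ∈ Cfsg.pCore p G, v ^ p = 1) ∧
        ∃ P : Sylow p G, (P : Subgroup G) = Cfsg.pCore p G)) : EqConj G := by
  classical
  haveI := hsol
  let S := Cfsg.fittingSubgroup G
  haveI hSn : S.Normal := Cores.fittingSubgroup_normal
  have hScomm : ∀ (p : ℕ) [Fact p.Prime], IsMulCommutative (Cfsg.pCore p G) := by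
    intro p _
    rcases hV p with h | ⟨h, -⟩
    · rw [h]; infer_instance
    · exact h
  have hSc : IsMulCommutative S := by
    refine comm_of_sylow Cores.fittingSubgroup_isNilpotent fun q _ T => ⟨⟨fun a b => ?_⟩⟩
    have hmem : ∀ t : (T : Subgroup S), ((t : S) : G) ∈ Cfsg.pCore q G := fun t => by
      obtain ⟨k, hk⟩ := T.isPGroup' t
      exact mem_pCore_of_mem_fitting (t : S).2 (k := k)
        (congrArg (fun u : (T : Subgroup S) => ((u : S) : G)) hk)
    exact Subtype.ext (Subtype.ext (congrArg Subtype.val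
      ((hScomm q).is_comm.comm ⟨_, hmem a⟩ ⟨_, hmem b⟩) :))
  have hcop : (Nat.card S).Coprime S.index := by
    refine Nat.coprime_of_dvd fun q hq hqS hqi => ?_
    haveI := Fact.mk hq
    obtain ⟨⟨x, hx⟩, hxo⟩ := exists_prime_orderOf_dvd_card' (G := S) q hqS
    have hxo' : orderOf x = q := by rwa [Subgroup.orderOf_mk] at hxo
    rcases hV q with h | ⟨-, -, P, hP⟩
    · have h1 := mem_pCore_of_mem_fitting (q := q) hx (k := 1)
        (by rw [pow_one, ← hxo', pow_orderOf_eq_one])
      rw [h, Subgroup.mem_bot] at h1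
      exact hq.ne_one (by rw [← hxo', h1, orderOf_one])
    · exact P.not_dvd_index (hqi.trans (Subgroup.index_dvd_of_le
        (hP.le.trans (Cores.pCore_le_fittingSubgroup q))))
  have hSodd : ∀ x : G, x ∈ S → orderOf x ∣ Nat.card S := fun x hx => by
    rw [← Subgroup.orderOf_mk x hx]; exact orderOf_dvd_natCard _
  let π := QuotientGroup.mk' S
  have hπ : Function.Surjective π := QuotientGroup.mk'_surjective S
  have hL : Conj (G ⧸ S) := conj_quotient_of_solvable hB hsol S
  have hLsol : Group.IsSolvable (G ⧸ S) := Group.isSolvable_of_surjective hπ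
  -- the action on the cores
  have hker : ∀ (p : ℕ) [Fact p.Prime],
      S ≤ (MulAut.conjNormal : G →* MulAut (Cfsg.pCore p G)).ker := by
    intro p _ s hs
    rw [MonoidHom.mem_ker]
    refine MulEquiv.ext fun v => Subtype.ext ?_
    rw [MulAut.conjNormal_apply, MulAut.one_apply,
      show s * (v : G) = v * s from congrArg Subtype.val
        (hSc.is_comm.comm (⟨s, hs⟩ : S) ⟨v, Cores.pCore_le_fittingSubgroup p v.2⟩),
      mul_inv_cancel_right]
  let ρ : ∀ (p : ℕ) [Fact p.Prime], G ⧸ S →* MulAut (Cfsg.pCore p G) := fun p _ =>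
    QuotientGroup.lift S MulAut.conjNormal (hker p)
  -- no noncyclic normal elementary abelian subgroup upstairs
  have hN : ∀ N : Subgroup (G ⧸ S), N.Normal → IsMulCommutative N →
      (∃ r : ℕ, r.Prime ∧ ∀ x ∈ N, x ^ r = 1) → IsCyclic N := by
    rintro N hNn hNc ⟨r, hr, hNr⟩
    haveI := Fact.mk hr
    haveI := hNn
    by_contra hnc
    obtain ⟨p, hp, hNker⟩ : ∃ (p : ℕ) (_ : Fact p.Prime), ¬ N ≤ (ρ p).ker := by
      by_contra hall
      push Not at hall
      obtain ⟨n, hn, hn1⟩ := (Subgroup.bot_or_exists_ne_one N).resolve_left (fun h => hnc (h ▸ inferInstance))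
      obtain ⟨g, rfl⟩ := hπ n
      refine hn1 ((QuotientGroup.eq_one_iff g).2 (Cores.centralizer_fittingSubgroup_le ?_))
      rw [Cores.fittingSubgroup_eq_iSup_pCore]
      have h1 : (⨆ q : Nat.Primes, Cfsg.pCore (q : ℕ) G) ≤ Subgroup.centralizer {g} :=
        iSup_le fun q c hc => by
          haveI : Fact (q : ℕ).Prime := ⟨q.2⟩
          rw [Subgroup.mem_centralizer_iff]
          rintro y rfl
          have h2 : y * c * y⁻¹ = c := congrArg
            (fun σ : MulAut (Cfsg.pCore (q : ℕ) G) => ((σ ⟨c, hc⟩ : Cfsg.pCore (q : ℕ) G) : G))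
            (hall q inferInstance hn)
          exact mul_inv_eq_iff_eq_mul.1 h2
      intro c hc
      exact (Subgroup.mem_centralizer_iff.1 (h1 hc) g rfl).symm
    haveI := hp
    have hinf : ∀ x ∈ N, ρ p x = 1 → x = 1 := by
      intro x hx hx1
      by_contra hne
      have hdvd : r ∣ Nat.card (ρ p).ker := by
        have := orderOf_dvd_natCard (⟨x, MonoidHom.mem_ker.2 hx1⟩ : (ρ p).ker)
        rwa [Subgroup.orderOf_mk, orderOf_eq_prime (hNr x hx) hne] at this
      exact hNker fun y hy => mem_normal_of_pow hL hdvd (hNr y hy)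
    haveI := hScomm p
    rcases hV p with h | ⟨-, hexp, -⟩
    · refine hNker fun x _ => ?_
      rw [MonoidHom.mem_ker]
      refine MulEquiv.ext fun v => ?_
      haveI : Subsingleton (Cfsg.pCore p G) := by rw [h]; infer_instance
      exact Subsingleton.elim _ _
    let ρN : N →* MulAut (Cfsg.pCore p G) := (ρ p).comp N.subtype
    have hinj : Function.Injective ρN :=
      (injective_iff_map_eq_one ρN).2 fun n hn => Subtype.ext (hinf n n.2 hn)
    refine stab_absurd hNc hnc ρN hinj ?_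
    have hle : ∀ a b : Cfsg.pCore p G, a ≠ 1 → b ≠ 1 →
        Nat.card (stab ρN a) ≤ Nat.card (stab ρN b) := by
      intro a b ha hb
      have ha' : orderOf (a : G) = p :=
        orderOf_eq_prime (hexp a a.2) fun h => ha (Subtype.ext h)
      have hb' : orderOf (b : G) = p :=
        orderOf_eq_prime (hexp b b.2) fun h => hb (Subtype.ext h)
      obtain ⟨g, hg⟩ := hB (Subgroup.zpowers (a : G)) (Subgroup.zpowers (b : G)) inferInstance
        inferInstance (by rw [Nat.card_zpowers, Nat.card_zpowers, ha', hb'])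
      rw [MonoidHom.map_zpowers] at hg
      obtain ⟨i, hi⟩ := Subgroup.mem_zpowers_iff.1 (hg ▸ Subgroup.mem_zpowers (b : G))
      let l := π g
      have hb2 : b = ρ p l (a ^ i) := by
        apply Subtype.ext
        rw [map_zpow, Subgroup.coe_zpow, ← hi]
        rfl
      let f : stab ρN a → stab ρN b := fun n =>
        ⟨⟨l * ((n : N) : G ⧸ S) * l⁻¹, hNn.conj_mem _ (n : N).2 l⟩, by
          show ρ p (l * ((n : N) : G ⧸ S) * l⁻¹) b = b
          have hn : ρ p ((n : N) : G ⧸ S) a = a := n.2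
          rw [hb2, ← MulAut.mul_apply, ← map_mul, inv_mul_cancel_right, map_mul, MulAut.mul_apply,
            map_zpow (ρ p ((n : N) : G ⧸ S)), hn]⟩
      exact Nat.card_le_card_of_injective f fun m n hmn => by
        have h1 := congrArg (fun t : stab ρN b => ((t : N) : G ⧸ S)) hmn
        exact Subtype.ext (Subtype.ext (mul_left_cancel (mul_right_cancel h1)))
    exact fun a b ha hb => le_antisymm (hle a b ha hb) (hle b a hb ha)
  have hsyl := fun (r : ℕ) (hr : Fact r.Prime) (R : Sylow r (G ⧸ S)) =>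
    sylow_structure hL hLsol hN R
  refine eqConj_of_hall hSc hcop (fun D₁ D₂ h₁ h₂ hc =>
    hB D₁ D₂ (isMulCommutative_of_le hSc h₁) (isMulCommutative_of_le hSc h₂) hc) fun D hDS => ?_
  let K := Subgroup.normalizer (D : Set G)
  have hSK : S ≤ K := fun s hs => mem_normalizer_of_map_eq (by
    refine Subgroup.eq_of_le_of_card_ge ?_ (card_conj s D).ge
    rintro _ ⟨d, hd, rfl⟩
    show s * d * s⁻¹ ∈ D
    rwa [show s * d = d * s from
      congrArg Subtype.val (hSc.is_comm.comm (⟨s, hs⟩ : S) ⟨d, hDS hd⟩), mul_inv_cancel_right])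
  let Kb := K.map π
  show EqConj Kb
  by_cases hz : IsZGroup (G ⧸ S)
  · exact eqConj_of_isZGroup
  rw [isZGroup_iff] at hz
  push Not at hz
  obtain ⟨r, hr, Qs, hQnc⟩ := hz
  haveI := Fact.mk hr
  obtain ⟨hr2, hQn, ⟨e⟩⟩ := (hsyl r inferInstance Qs).resolve_left hQnc
  subst hr2
  let Q : Subgroup (G ⧸ S) := Qs
  haveI : Q.Normal := hQn
  obtain ⟨z, hzQ, hzo, hinv, h4, hQ8⟩ := quaternion_facts e
  haveI := Sylow.unique_of_normal Qs hQn
  have hQall : ∀ T : Sylow 2 (G ⧸ S), (T : Subgroup (G ⧸ S)) = Q := fun T => by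
    rw [Subsingleton.elim T Qs]
  have hmemQ : ∀ (x : G ⧸ S) (k : ℕ), x ^ 2 ^ k = 1 → x ∈ Q := fun x k hx => by
    obtain ⟨T, hT⟩ := (IsPGroup.of_card_dvd_pow (p := 2) (n := k)
      (show Nat.card (Subgroup.zpowers x) ∣ 2 ^ k by
        rw [Nat.card_zpowers]; exact orderOf_dvd_of_pow_eq_one hx)).exists_le_sylow
    exact hQall T ▸ hT (Subgroup.mem_zpowers x)
  have hinvL : ∀ x : G ⧸ S, x ^ 2 = 1 → x ∈ Subgroup.zpowers z := fun x hx => by
    rcases hinv x (hmemQ x 1 (by simpa using hx)) hx with rfl | rfl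
    exacts [Subgroup.one_mem _, Subgroup.mem_zpowers _]
  let Z := Subgroup.zpowers z
  have hZ2 : ∀ x ∈ Z, x ^ 2 = 1 := fun x hx => by
    obtain ⟨i, rfl⟩ := Subgroup.mem_zpowers_iff.1 hx
    rw [← zpow_natCast, ← zpow_mul, mul_comm, zpow_mul, zpow_natCast,
      (show z ^ 2 = 1 from hzo ▸ pow_orderOf_eq_one z), one_zpow]
  haveI hZn : Z.Normal := ⟨fun n hn g => hinvL _ (by rw [conj_pow, hZ2 n hn, mul_one, mul_inv_cancel])⟩
  have hfourc : ∀ C : Subgroup (G ⧸ S), C ≤ Q → Nat.card C = 4 →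
      ∃ x ∈ C, orderOf x = 4 ∧ C = Subgroup.zpowers x := by
    intro C hC hC4
    obtain ⟨x, hx, hx2⟩ : ∃ x ∈ C, x ^ 2 ≠ 1 := by
      by_contra hall
      push Not at hall
      have := Subgroup.card_le_of_le (show C ≤ Z from fun x hx => hinvL x (hall x hx))
      rw [hC4, Nat.card_zpowers, hzo] at this
      omega
    have hxo := orderOf_eq_four hx2 (h4 x (hC hx))
    exact ⟨x, hx, hxo, (Subgroup.eq_of_le_of_card_ge (Subgroup.zpowers_le.2 hx)
      (by rw [hC4, Nat.card_zpowers, hxo])).symm⟩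
  have hoddsyl : ∀ (q : ℕ) [Fact q.Prime], q ≠ 2 → ∀ P : Sylow q Kb, IsCyclic (P : Subgroup Kb) := by
    intro q _ hq2 P
    obtain ⟨R, hR⟩ := P.exists_comap_eq_of_injective Kb.subtype_injective
    haveI : IsCyclic (R : Subgroup (G ⧸ S)) := by
      rcases hsyl q inferInstance R with h | ⟨h, -⟩
      exacts [h, absurd h hq2]
    have h : (P : Subgroup Kb).map Kb.subtype ≤ R := hR ▸ Subgroup.map_comap_le _ _
    haveI := Subgroup.isCyclic_of_le h
    exact isCyclic_of_surjective _
      (Subgroup.equivMapOfInjective (P : Subgroup Kb) _ Kb.subtype_injective).symm.surjective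
  by_cases hQK : Q ≤ Kb
  swap
  · haveI : IsZGroup Kb := by
      refine ⟨fun q hq P => ?_⟩
      haveI := Fact.mk hq
      by_cases hq2 : q = 2
      swap
      · exact hoddsyl q hq2 P
      subst hq2
      have hle : (P : Subgroup Kb).map Kb.subtype ≤ Q := by
        obtain ⟨T, hT⟩ := (P.isPGroup'.map Kb.subtype).exists_le_sylow
        exact hT.trans (hQall T).le
      suffices IsCyclic ((P : Subgroup Kb).map Kb.subtype) by
        exact isCyclic_of_surjective _
          (Subgroup.equivMapOfInjective (P : Subgroup Kb) _ Kb.subtype_injective).symm.surjective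
      have hlt : Nat.card ((P : Subgroup Kb).map Kb.subtype) ≠ 8 := fun h8 => hQK (by
        rw [← Subgroup.eq_of_le_of_card_ge hle (by rw [hQ8, h8])]
        exact Subgroup.map_subtype_le _)
      have hd := (Subgroup.card_dvd_of_le hle).trans (hQ8.trans (show (8 : ℕ) = 2 ^ 3 from rfl)).dvd
      obtain ⟨j, hj, hjc⟩ := (Nat.dvd_prime_pow Nat.prime_two).1 hd
      interval_cases j
      · rw [pow_zero] at hjc
        rw [Subgroup.card_eq_one.1 hjc]; infer_instance
      · rw [pow_one] at hjc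
        exact isCyclic_of_prime_card hjc
      · obtain ⟨x, -, -, hxe⟩ := hfourc _ hle hjc
        rw [hxe]; infer_instance
      · exact absurd hjc hlt
    exact eqConj_of_isZGroup
  -- the quaternion group normalises `D`
  let W := Q.comap π
  have hWK : W ≤ K := by
    have h1 : W ≤ Kb.comap π := Subgroup.comap_mono hQK
    rwa [Subgroup.comap_map_eq, QuotientGroup.ker_mk', sup_eq_left.2 hSK] at h1
  have hSW : S ≤ W := fun s hs => by
    show π s ∈ Q
    rw [show π s = 1 from (QuotientGroup.eq_one_iff s).2 hs]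
    exact Q.one_mem
  let D₁ := D ⊓ Subgroup.centralizer (W : Set G)
  have hpart : ∀ (p : ℕ) [Fact p.Prime], D ⊓ Cfsg.pCore p G ≠ ⊥ → ¬ Cfsg.pCore p G ≤ D →
      Cfsg.pCore p G ≤ Subgroup.centralizer (W : Set G) := by
    intro p hp hne hnle
    obtain ⟨hVc, hexp, -⟩ := (hV p).resolve_left fun h => hne (by rw [h, inf_bot_eq])
    haveI := hVc
    let V := Cfsg.pCore p G
    let Dp := D ⊓ V
    have hVS : V ≤ S := Cores.pCore_le_fittingSubgroup p
    have hstab : ∀ U : Subgroup G, U ≤ V → Nat.card U = Nat.card Dp →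
        ∀ w ∈ W, ∀ u ∈ U, w * u * w⁻¹ ∈ U := by
      intro U hU hc w hw u hu
      obtain ⟨g, hg⟩ := hB Dp U (isMulCommutative_of_le hVc inf_le_right)
        (isMulCommutative_of_le hVc hU) hc.symm
      subst hg
      obtain ⟨d, hd, rfl⟩ := hu
      let w' := g⁻¹ * w * g
      have hw' : w' ∈ W := by
        have := (inferInstance : W.Normal).conj_mem w hw g⁻¹
        rwa [inv_inv] at this
      refine ⟨w' * d * w'⁻¹, ⟨(Subgroup.mem_normalizer_iff.1 (hWK hw') d).1 hd.1,
        (inferInstance : V.Normal).conj_mem d hd.2 w'⟩, ?_⟩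
      show g * (w' * d * w'⁻¹) * g⁻¹ = w * (g * d * g⁻¹) * w⁻¹
      simp only [w']
      group
    have hVp : IsPGroup p V := Cores.MinNormal.isPGroup_of_pow_eq_one hexp
    obtain ⟨a, ha⟩ := IsPGroup.iff_card.1 (hVp.to_le (inf_le_right : Dp ≤ V))
    obtain ⟨b, hb⟩ := IsPGroup.iff_card.1 hVp
    have ha1 : 1 ≤ a := by
      by_contra hlt
      exact hne (Subgroup.card_eq_one.1 (by rw [ha, show a = 0 by omega, pow_zero]))
    have hab : a < b := by
      by_contra hlt
      exact hnle ((Subgroup.eq_of_le_of_card_ge (inf_le_right : Dp ≤ V)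
        (by rw [ha, hb]; exact Nat.pow_le_pow_right hp.out.pos (by omega))).ge.trans inf_le_left)
    have hlines : ∀ (l : G ⧸ S), l ∈ Q → ∀ v : V, ρ p l v ∈ Subgroup.zpowers v := by
      intro l hl v
      obtain ⟨w, rfl⟩ := hπ l
      by_contra hno
      have hv1 : v ≠ 1 := fun h => hno (by rw [h, map_one]; exact Subgroup.one_mem _)
      obtain ⟨U, ⟨hvU, huU⟩, hmax⟩ :=
        (Set.toFinite {U : Subgroup V | v ∈ U ∧ ρ p (π w) v ∉ U}).exists_maximal
          ⟨Subgroup.zpowers v, Subgroup.mem_zpowers v, hno⟩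
      let u := ρ p (π w) v
      have huo : orderOf u = p := orderOf_eq_prime (Subtype.ext (hexp _ u.2))
        fun h => huU (show u ∈ U by rw [h]; exact U.one_mem)
      have htop : U ⊔ Subgroup.zpowers u = ⊤ := by
        rw [eq_top_iff]
        intro x _
        by_cases hxU : x ∈ U
        · exact Subgroup.mem_sup_left hxU
        have hin : u ∈ U ⊔ Subgroup.zpowers x := by
          by_contra hni
          have h1 := hmax (y := U ⊔ Subgroup.zpowers x) ⟨Subgroup.mem_sup_left hvU, hni⟩ le_sup_left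
          exact hxU (h1 (Subgroup.mem_sup_right (Subgroup.mem_zpowers x)))
        obtain ⟨y, hy, z', hz', hyz⟩ := Subgroup.mem_sup.1 hin
        obtain ⟨i, rfl⟩ := Subgroup.mem_zpowers_iff.1 hz'
        have hxi : x ^ i ≠ 1 := fun h => huU (by
          show u ∈ U
          rw [← hyz, h, mul_one]; exact hy)
        have hx1 : x ≠ 1 := fun h => hxU (h ▸ U.one_mem)
        have heq : Subgroup.zpowers (x ^ i) = Subgroup.zpowers x :=
          Subgroup.eq_of_le_of_card_ge (Subgroup.zpowers_le.2 (zpow_mem (Subgroup.mem_zpowers x) i))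
            (by rw [Nat.card_zpowers, Nat.card_zpowers,
              orderOf_eq_prime (Subtype.ext (hexp _ (x ^ i).2)) hxi,
              orderOf_eq_prime (Subtype.ext (hexp _ x.2)) hx1])
        refine (?_ : Subgroup.zpowers x ≤ U ⊔ Subgroup.zpowers u) (Subgroup.mem_zpowers x)
        rw [← heq, Subgroup.zpowers_le, show x ^ i = y⁻¹ * u by rw [← hyz, inv_mul_cancel_left]]
        exact mul_mem (Subgroup.mem_sup_left (inv_mem hy))
          (Subgroup.mem_sup_right (Subgroup.mem_zpowers u))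
      obtain ⟨c, hc⟩ := IsPGroup.iff_card.1 (hVp.to_subgroup U)
      have hbc : b ≤ c + 1 := by
        have h1 : Nat.card V ≤ Nat.card U * p := by
          rw [← Subgroup.card_top (G := V), ← htop, ← huo, ← Nat.card_zpowers, ← Nat.card_prod]
          refine Nat.card_le_card_of_surjective
            (fun t : U × Subgroup.zpowers u =>
              (⟨(t.1 : V) * t.2, Subgroup.mul_mem_sup t.1.2 t.2.2⟩ :
                (U ⊔ Subgroup.zpowers u : Subgroup V))) ?_
          rintro ⟨x, hx⟩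
          obtain ⟨y, hy, z', hz', rfl⟩ := Subgroup.mem_sup.1 hx
          exact ⟨⟨⟨y, hy⟩, ⟨z', hz'⟩⟩, rfl⟩
        rw [hb, hc, ← pow_succ] at h1
        exact (Nat.pow_le_pow_iff_right hp.out.one_lt).1 h1
      have hvo : orderOf v = p := orderOf_eq_prime (Subtype.ext (hexp _ v.2)) hv1
      obtain ⟨U', hU', hle'⟩ := Sylow.exists_subgroup_card_pow_prime_le p (G := U) (n := 1) (m := a)
        (hc ▸ Nat.pow_dvd_pow p (by omega)) (Subgroup.zpowers (⟨v, hvU⟩ : U))
        (by rw [Nat.card_zpowers, Subgroup.orderOf_mk, hvo, pow_one]) ha1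
      let U'' : Subgroup G := (U'.map U.subtype).map V.subtype
      have hmem : w * (v : G) * w⁻¹ ∈ U'' :=
        hstab U'' (Subgroup.map_subtype_le _)
          (by rw [Subgroup.card_subtype, Subgroup.card_subtype, hU', ha]) w hl (v : G)
          ⟨v, ⟨⟨v, hvU⟩, hle' (Subgroup.mem_zpowers _), rfl⟩, rfl⟩
      obtain ⟨y, hy, hye⟩ := hmem
      refine huU (?_ : u ∈ U)
      rw [show u = y from Subtype.ext hye.symm]
      exact Subgroup.map_subtype_le _ hy
    have hscal : ∀ l ∈ Q, ∃ i : ℤ, ∀ v : V, ρ p l v = v ^ i := fun l hl =>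
      scalar_of_lines (fun v => Subtype.ext (hexp _ v.2)) _ (hlines l hl)
    have hinvar : ∀ l ∈ Q, ∀ g : G ⧸ S, ρ p (g * l * g⁻¹) = ρ p l := by
      intro l hl g
      obtain ⟨i, hi⟩ := hscal l hl
      refine MulEquiv.ext fun v => ?_
      rw [map_mul, map_mul, MulAut.mul_apply, MulAut.mul_apply, hi, map_zpow, ← MulAut.mul_apply,
        ← map_mul, mul_inv_cancel, map_one, MulAut.one_apply, hi]
    have hcon : ∀ x ∈ Q, ∀ y ∈ Q, orderOf x = 4 → orderOf y = 4 →
        ∃ i : ℤ, ¬ (2 : ℤ) ∣ i ∧ ρ p y = ρ p x ^ i := by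
      intro x hx y hy hxo hyo
      obtain ⟨g, hg⟩ := hL (Subgroup.zpowers x) (Subgroup.zpowers y) inferInstance inferInstance
        (by rw [Nat.card_zpowers, Nat.card_zpowers, hxo, hyo])
      rw [MonoidHom.map_zpowers] at hg
      obtain ⟨i, hi⟩ := Subgroup.mem_zpowers_iff.1 (hg ▸ Subgroup.mem_zpowers y)
      refine ⟨i, fun h2 => ?_, ?_⟩
      · obtain ⟨j, rfl⟩ := h2
        have h1 : y ^ 2 = 1 := by
          rw [← hi, ← zpow_natCast, ← zpow_mul, show 2 * j * ((2 : ℕ) : ℤ) = ((4 : ℕ) : ℤ) * j by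
              push_cast; ring,
            zpow_mul, zpow_natCast]
          have : ((MulAut.conj g).toMonoidHom x) ^ 4 = 1 := by rw [← map_pow, h4 x hx, map_one]
          rw [this, one_zpow]
        have := orderOf_dvd_of_pow_eq_one h1
        rw [hyo] at this
        omega
      · rw [← hi, map_zpow]
        exact congrArg (· ^ i) (hinvar x hx g)
    have hfour : ∀ x ∈ Q, orderOf x = 4 → x ∈ (ρ p).ker := by
      intro x hx hxo
      have hxz : ∀ y ∈ Q, y ^ 2 = 1 → y ∈ Subgroup.zpowers x := fun y hy hy2 => by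
        have hx2 : x ^ 2 = z := (hinv _ (Q.pow_mem hx 2) (by rw [← pow_mul]; exact h4 x hx)).resolve_left
          fun h => by have := orderOf_dvd_of_pow_eq_one h; rw [hxo] at this; omega
        rcases hinv y hy hy2 with rfl | rfl
        exacts [Subgroup.one_mem _, hx2 ▸ pow_mem (Subgroup.mem_zpowers x) 2]
      obtain ⟨y, hy, hyx⟩ : ∃ y ∈ Q, y ∉ Subgroup.zpowers x := by
        by_contra hall
        push Not at hall
        have := Subgroup.card_le_of_le (show Q ≤ Subgroup.zpowers x from hall)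
        rw [hQ8, Nat.card_zpowers, hxo] at this
        omega
      have hxy : x * y ∉ Subgroup.zpowers x := fun h => hyx (by
        simpa using mul_mem (inv_mem (Subgroup.mem_zpowers x)) h)
      have hyo := orderOf_eq_four (fun h => hyx (hxz y hy h)) (h4 y hy)
      have hxyQ := Q.mul_mem hx hy
      have hxyo := orderOf_eq_four (fun h => hxy (hxz _ hxyQ h)) (h4 _ hxyQ)
      obtain ⟨i, hi, hiy⟩ := hcon x hx y hy hxo hyo
      obtain ⟨k, hk, hky⟩ := hcon x hx _ hxyQ hxo hxyo
      rw [map_mul, hiy, ← zpow_one_add] at hky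
      have h1 : (orderOf (ρ p x) : ℤ) ∣ 1 + i - k := orderOf_dvd_sub_iff_zpow_eq_zpow.2 hky
      have h2 : orderOf (ρ p x) ∣ 4 :=
        orderOf_dvd_of_pow_eq_one (by rw [← map_pow, h4 x hx, map_one])
      rw [MonoidHom.mem_ker, ← orderOf_eq_one_iff]
      have h3 : orderOf (ρ p x) ≤ 4 := Nat.le_of_dvd (by norm_num) h2
      interval_cases h : orderOf (ρ p x) <;> omega
    have hQker : Q ≤ (ρ p).ker := le_of_order_four e hfour
    intro v hv w hw
    have h1 : w * v * w⁻¹ = v := congrArg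
      (fun σ : MulAut V => ((σ ⟨v, hv⟩ : V) : G)) (hQker hw)
    exact mul_inv_eq_iff_eq_mul.1 h1
  -- lifts of the cyclic subgroups of order four
  have hlift : ∀ C : Subgroup (G ⧸ S), C ≤ Q → Nat.card C = 4 → ∃ b ∈ W, orderOf b = 4 ∧
      (Subgroup.zpowers b).map π = C := by
    intro C hC hC4
    obtain ⟨x, hx, hxo, rfl⟩ := hfourc C hC hC4
    obtain ⟨a, rfl⟩ := hπ x
    have hc4 : (4 : ℕ).Coprime (Nat.card S) := by
      have h2i : 2 ∣ S.index := by
        rw [Subgroup.index_eq_card]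
        exact dvd_trans (hQ8 ▸ by norm_num) Q.card_subgroup_dvd_card
      exact ((hcop.symm.of_dvd_left h2i).pow_left 2 :)
    let n := Nat.card S
    have h4a : a ^ 4 ∈ S := by
      rw [← QuotientGroup.eq_one_iff]
      show π (a ^ 4) = 1
      rw [map_pow, h4 _ (hC hx)]
    have hb4 : (a ^ n) ^ 4 = 1 := by
      rw [← pow_mul, mul_comm, pow_mul]
      exact congrArg Subtype.val (pow_card_eq_one' (x := (⟨_, h4a⟩ : S)))
    have hco : orderOf (π a ^ n) = 4 := by
      rw [Nat.Coprime.orderOf_pow (hxo ▸ hc4), hxo]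
    refine ⟨a ^ n, W.pow_mem (show π a ∈ Q from hC hx) n, ?_, ?_⟩
    · refine Nat.dvd_antisymm (orderOf_dvd_of_pow_eq_one hb4) ?_
      have := orderOf_map_dvd π (a ^ n)
      rwa [map_pow, hco] at this
    · rw [MonoidHom.map_zpowers, map_pow]
      exact Subgroup.eq_of_le_of_card_ge (Subgroup.zpowers_le.2 (pow_mem (Subgroup.mem_zpowers _) n))
        (by rw [Nat.card_zpowers, Nat.card_zpowers, hco, hxo])
  have hD₁S : D₁ ≤ S := inf_le_left.trans hDS
  have hA : ∀ b ∈ W, orderOf b = 4 → (4 : ℕ) = Nat.card ((Subgroup.zpowers b).map π) →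
      IsMulCommutative (Subgroup.zpowers b ⊔ D₁ : Subgroup G) ∧
      (Subgroup.zpowers b ⊔ D₁) ⊓ S = D₁ ∧
      Nat.card (Subgroup.zpowers b ⊔ D₁ : Subgroup G) = Nat.card D₁ * 4 ∧
      (Subgroup.zpowers b ⊔ D₁).map π = (Subgroup.zpowers b).map π := by
    intro b hb hbo hb4
    have hcen : ∀ d ∈ D₁, ∀ i : ℤ, Commute (b ^ i) d := fun d hd i =>
      hd.2 _ (zpow_mem hb i)
    have hmem : ∀ x, x ∈ Subgroup.zpowers b ⊔ D₁ ↔ ∃ i : ℤ, ∃ d ∈ D₁, b ^ i * d = x := by
      have hle : Subgroup.zpowers b ≤ Subgroup.normalizer (D₁ : Set G) := by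
        refine Subgroup.zpowers_le.2 (mem_normalizer_of_map_eq ?_)
        refine Subgroup.eq_of_le_of_card_ge ?_ (card_conj b D₁).ge
        rintro _ ⟨d, hd, rfl⟩
        show b * d * b⁻¹ ∈ D₁
        rwa [(by simpa using (hcen d hd 1).eq : b * d = d * b), mul_inv_cancel_right]
      intro x
      rw [← SetLike.mem_coe, Subgroup.coe_mul_of_left_le_normalizer_right _ _ hle, Set.mem_mul]
      constructor
      · rintro ⟨y, hy, d, hd, rfl⟩
        obtain ⟨i, rfl⟩ := Subgroup.mem_zpowers_iff.1 hy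
        exact ⟨i, d, hd, rfl⟩
      · rintro ⟨i, d, hd, rfl⟩
        exact ⟨_, Subgroup.zpow_mem_zpowers b i, d, hd, rfl⟩
    have hinf : (Subgroup.zpowers b ⊔ D₁) ⊓ S = D₁ := by
      refine le_antisymm ?_ (le_inf le_sup_right hD₁S)
      rintro x ⟨hx, hxS⟩
      obtain ⟨i, d, hd, rfl⟩ := (hmem x).1 hx
      have hbS : b ^ i ∈ S := (S.mul_mem_cancel_right (hD₁S hd)).1 hxS
      have hbi : b ^ i = 1 := by
        refine orderOf_eq_one_iff.1 (Nat.eq_one_of_dvd_coprimes ?_
          ((orderOf_dvd_of_mem_zpowers (Subgroup.zpow_mem_zpowers b i)).trans hbo.dvd)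
          (hSodd _ hbS))
        refine (hcop.symm.of_dvd_left ?_)
        rw [Subgroup.index_eq_card, hb4]
        exact Subgroup.card_subgroup_dvd_card _
      rwa [hbi, one_mul]
    have hmap : (Subgroup.zpowers b ⊔ D₁).map π = (Subgroup.zpowers b).map π := by
      rw [Subgroup.map_sup, sup_eq_left]
      rintro _ ⟨d, hd, rfl⟩
      rw [show π d = 1 from (QuotientGroup.eq_one_iff d).2 (hD₁S hd)]
      exact Subgroup.one_mem _
    refine ⟨⟨⟨?_⟩⟩, hinf, ?_, hmap⟩
    · rintro ⟨x, hx⟩ ⟨y, hy⟩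
      obtain ⟨i, d, hd, rfl⟩ := (hmem x).1 hx
      obtain ⟨j, d', hd', rfl⟩ := (hmem y).1 hy
      refine Subtype.ext ?_
      show b ^ i * d * (b ^ j * d') = b ^ j * d' * (b ^ i * d)
      have hdd : Commute d d' := congrArg Subtype.val
        (hSc.is_comm.comm (⟨d, hD₁S hd⟩ : S) ⟨d', hD₁S hd'⟩)
      exact (((Commute.refl b).zpow_zpow i j).mul_right (hcen d' hd' i)).mul_left
        ((hcen d hd j).symm.mul_right hdd)
    · rw [card_eq_inf_mul_map (Subgroup.zpowers b ⊔ D₁) S, hinf]
      exact congrArg _ ((congrArg (fun T : Subgroup (G ⧸ S) => Nat.card T) hmap).trans hb4.symm)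
  refine eqConj_of_order_eight (X := Kb) (Q := Q.subgroupOf Kb)
    ((Nat.card_congr (Subgroup.subgroupOfEquivOfLe hQK).toEquiv).trans hQ8) ?_
    (Z := Z.subgroupOf Kb) ?_ ?_ ?_ hoddsyl
  · intro h2
    have : 2 ∣ Q.index := h2.trans (Subgroup.relIndex_dvd_index_of_normal Q Kb)
    exact Qs.not_dvd_index this
  · rw [Nat.card_congr (Subgroup.subgroupOfEquivOfLe
      (show Z ≤ Kb from (Subgroup.zpowers_le.2 hzQ).trans hQK)).toEquiv, Nat.card_zpowers, hzo]
  · intro x hx
    exact hinvL x (congrArg Subtype.val hx)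
  intro C₁ C₂ hC₁ hC₂ hc₁ hc₂
  have hCQ : ∀ C : Subgroup Kb, C ≤ Q.subgroupOf Kb → C.map Kb.subtype ≤ Q :=
    fun C hC => Subgroup.map_le_iff_le_comap.2 hC
  obtain ⟨b₁, hb₁, hb₁o, hb₁m⟩ := hlift _ (hCQ _ hC₁) (by rw [Subgroup.card_subtype, hc₁])
  obtain ⟨b₂, hb₂, hb₂o, hb₂m⟩ := hlift _ (hCQ _ hC₂) (by rw [Subgroup.card_subtype, hc₂])
  obtain ⟨hA₁c, hA₁i, hA₁n, hA₁m⟩ :=
    hA b₁ hb₁ hb₁o (by rw [hb₁m, Subgroup.card_subtype, hc₁])
  obtain ⟨hA₂c, hA₂i, hA₂n, hA₂m⟩ :=
    hA b₂ hb₂ hb₂o (by rw [hb₂m, Subgroup.card_subtype, hc₂])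
  obtain ⟨g, hg⟩ := hB _ _ hA₁c hA₂c (hA₁n.trans hA₂n.symm)
  have hgD₁ : D₁.map (MulAut.conj g).toMonoidHom = D₁ := by
    conv_lhs => rw [← hA₁i]
    rw [← map_conj_inf, ← hg, hA₂i]
  have hgK : g ∈ K := by
    refine mem_normalizer_of_map_eq (Subgroup.eq_of_le_of_card_ge ?_ (card_conj g D).ge)
    rw [Subgroup.map_le_iff_le_comap]
    refine le_of_forall_prime fun p _ x hx hk => ?_
    obtain ⟨k, hk⟩ := hk
    have hxp : x ∈ Cfsg.pCore p G := mem_pCore_of_mem_fitting (hDS hx) hk
    show g * x * g⁻¹ ∈ D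
    by_cases hbot : D ⊓ Cfsg.pCore p G = ⊥
    · have : x = 1 := Subgroup.mem_bot.1 (hbot.le ⟨hx, hxp⟩)
      simp [this]
    by_cases hle : Cfsg.pCore p G ≤ D
    · exact hle ((inferInstance : (Cfsg.pCore p G).Normal).conj_mem x hxp g)
    · exact (hgD₁.le ⟨x, ⟨hx, hpart p hbot hle hxp⟩, rfl⟩ : g * x * g⁻¹ ∈ D₁).1
  refine ⟨⟨π g, Subgroup.mem_map_of_mem π hgK⟩, Subgroup.map_injective Kb.subtype_injective ?_⟩
  rw [Subgroup.map_map, ← hb₂m, ← hA₂m, hg, map_mk_conj, hA₁m, hb₁m, Subgroup.map_map]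
  congr 1

/-- All subgroups of equal order are conjugate. -/
theorem eqConj_of_conj {G : Type u} [Group G] [Finite G] (hB : Conj G)
    (hsol : Group.IsSolvable G) : EqConj G := by
  induction hn : Nat.card G using Nat.strong_induction_on generalizing G with
  | _ n ih =>
    haveI := hsol
    by_cases hV : ∃ V : Subgroup G, V.Normal ∧ (Nat.card V).Prime
    · obtain ⟨V, hVn, hVp⟩ := hV
      haveI := hVn
      haveI := Fact.mk hVp
      refine eqConj_of_prime (p := Nat.card V) rfl
        (fun x hx => mem_normal_of_pow hB dvd_rfl hx) ?_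
      subst hn
      refine ih _ ?_ (conj_quotient_of_solvable hB hsol V)
        (Group.isSolvable_of_surjective (QuotientGroup.mk'_surjective V)) rfl
      rw [← Subgroup.index_eq_card, ← V.card_mul_index]
      exact lt_mul_of_one_lt_left (Nat.pos_of_ne_zero Subgroup.index_ne_zero_of_finite) hVp.one_lt
    push Not at hV
    refine eqConj_of_elementary hB hsol fun p hp => or_iff_not_imp_left.2 fun hne => ?_
    obtain ⟨N, hNn, hNle, hNne, hNmin⟩ := Cores.MinNormal.exists_minimal_le hne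
    haveI := hNn
    obtain ⟨hNc, q, hq, hNq⟩ := Cores.MinNormal.elementary_of_solvable hNne hNmin
    obtain ⟨t, ht⟩ := IsPGroup.iff_card.1 ((Cores.pCore_isPGroup p).to_le hNle)
    have ht2 : 2 ≤ t := by
      by_contra hlt
      rcases (by omega : t = 0 ∨ t = 1) with rfl | rfl
      · exact hNne (Subgroup.card_eq_one.1 (by simpa using ht))
      · exact hV N hNn (by rw [ht, pow_one]; exact hp.out)
    obtain rfl : q = p := by
      obtain ⟨m, hm, hm1⟩ := (Subgroup.bot_or_exists_ne_one N).resolve_left hNne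
      have h1 : orderOf m ∣ p ^ t := ht ▸ (Subgroup.orderOf_mk m hm ▸ orderOf_dvd_natCard (⟨m, hm⟩ : N))
      haveI := Fact.mk hq
      rw [orderOf_eq_prime (hNq m hm) hm1] at h1
      exact (Nat.prime_dvd_prime_iff_eq hq hp.out).1 (hq.dvd_of_dvd_pow h1)
    obtain ⟨P⟩ : Nonempty (Sylow q G) := inferInstance
    have hP : (P : Subgroup G) = N := (Cfsg.Agent.S3909.result hB N).2 q t ht2 ht ⟨hNc, hNq⟩ P
    have hcore : Cfsg.pCore q G = N := le_antisymm (hP ▸ Cores.pCore_le_sylow P) hNle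
    rw [hcore]
    exact ⟨hNc, hNq, P, hP⟩

end Cfsg.Agent.Lib.FiniteGroupStructure.ConjAll
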