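/-
A normal subgroup `N` of a finite group `G` such that the centralizer in `G` of every element of
`N` outside the centre of `N` is a maximal subgroup.
-/
import Cfsg.Agent.Lib.Frobenius.PComplement
import Cfsg.Agent.Lib.Frobenius.FixedPointFree
import Cfsg.Agent.Lib.Frobenius.Basic
import Cfsg.Agent.Lib.Transfer.PResidual
import Cfsg.Agent.Lib.Transfer.Frobenius

set_option autoImplicit false
set_option linter.unusedSectionVars false
set_option linter.style.haveILetI false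

namespace Cfsg.Agent.Lib.FiniteGroupStructure.MaximalCentralizer

open scoped commutatorElement
open Cfsg.Agent.Lib

/-- A finite group whose `p'`-elements are central is nilpotent. -/
theorem isNilpotent_of_central {W : Type*} [Group W] [Finite W] {p : ℕ} [Fact p.Prime]
    (h : ∀ y : W, (orderOf y).Coprime p → y ∈ Subgroup.center W) : Group.IsNilpotent W := by
  have hp : IsPGroup p (W ⧸ Subgroup.center W) := fun x => by
    obtain ⟨w, rfl⟩ := QuotientGroup.mk'_surjective _ x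
    obtain ⟨u, v, -, -, huv, -, ⟨k, hk⟩, hv⟩ :=
      Transfer.PResidual.exists_pPart_mul_pPrimePart (p := p) w (isOfFinOrder_of_finite w)
    refine ⟨k, ?_⟩
    rw [← huv, map_mul, show (QuotientGroup.mk' (Subgroup.center W)) v = 1 from
      (QuotientGroup.eq_one_iff v).2 (h v hv), mul_one, ← map_pow, hk, map_one]
  exact Group.of_quotient_center_nilpotent hp.isNilpotent

/-- The hypothesis. -/
structure Hyp {G : Type*} [Group G] (N : Subgroup G) : Prop where
  normal : N.Normal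
  coatom : ∀ x ∈ N, x ∉ Subgroup.centralizer (N : Set G) →
    IsCoatom (Subgroup.centralizer ({x} : Set G))

variable {G : Type*} [Group G] [Finite G] {N : Subgroup G}

/-- `Z(N)` inside `G`. -/
abbrev Z (N : Subgroup G) : Subgroup G := N ⊓ Subgroup.centralizer (N : Set G)

theorem mem_Z {x : G} : x ∈ Z N ↔ x ∈ N ∧ ∀ n ∈ N, n * x = x * n :=
  ⟨fun h => ⟨h.1, fun n hn => h.2 n hn⟩, fun h => ⟨h.1, fun n hn => h.2 n hn⟩⟩

theorem Z_normal (hN : N.Normal) : (Z N).Normal := inferInstance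

/-- `C(x)`. -/
abbrev C (x : G) : Subgroup G := Subgroup.centralizer ({x} : Set G)

theorem mem_C {x g : G} : g ∈ C x ↔ g * x = x * g := Subgroup.mem_centralizer_singleton_iff

theorem self_mem_C (x : G) : x ∈ C x := mem_C.2 rfl

theorem C_le_of_mem_zpowers {x y : G} (hy : y ∈ Subgroup.zpowers x) : C x ≤ C y := by
  intro g hg
  obtain ⟨k, rfl⟩ := hy
  exact mem_C.2 ((Commute.zpow_right (mem_C.1 hg) k).eq)

theorem Z_le_C {x : G} (hx : x ∈ N) : Z N ≤ C x :=
  fun _ hz => mem_C.2 ((mem_Z.1 hz).2 x hx).symm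

variable (h : Hyp N)
include h

theorem C_coatom {x : G} (hx : x ∈ N) (hxZ : x ∉ Z N) : IsCoatom (C x) :=
  h.coatom x hx fun hc => hxZ ⟨hx, hc⟩

omit h in
theorem not_le_C {x : G} (hx : x ∈ N) (hxZ : x ∉ Z N) : ¬ N ≤ C x :=
  fun hle => hxZ (mem_Z.2 ⟨hx, fun _ hn => mem_C.1 (hle hn)⟩)

omit h in
theorem mem_Z_of_C_eq_top {x : G} (hx : x ∈ N) (ht : C x = ⊤) : x ∈ Z N :=
  mem_Z.2 ⟨hx, fun n _ => mem_C.1 (ht ▸ Subgroup.mem_top n)⟩

theorem C_eq_of_le {x y : G} (hx : x ∈ N) (hxZ : x ∉ Z N) (hy : y ∈ N) (hyZ : y ∉ Z N)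
    (hle : C x ≤ C y) : C x = C y := by
  rcases lt_or_eq_of_le hle with hlt | heq
  · exact absurd (mem_Z_of_C_eq_top hy ((C_coatom h hx hxZ).2 _ hlt)) hyZ
  · exact heq

theorem C_eq_of_zpowers {x y : G} (hx : x ∈ N) (hy : y ∈ Subgroup.zpowers x) (hyZ : y ∉ Z N) :
    C x = C y := by
  have hyN : y ∈ N := Subgroup.zpowers_le.2 hx hy
  refine C_eq_of_le h hx (fun hxZ => hyZ ?_) hyN hyZ (C_le_of_mem_zpowers hy)
  exact Subgroup.zpowers_le.2 hxZ hy

theorem C_eq_of_coprime {x y : G} (hx : x ∈ N) (hxZ : x ∉ Z N) (hy : y ∈ N) (hyZ : y ∉ Z N)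
    (hc : x * y = y * x) (hcop : (orderOf x).Coprime (orderOf y)) : C x = C y := by
  have hxy : x * y ∈ N := N.mul_mem hx hy
  have key : ∀ {a b : G}, a * b = b * a → (orderOf a).Coprime (orderOf b) →
      a ∈ Subgroup.zpowers (a * b) := by
    intro a b hab hco
    have hb : (a * b) ^ orderOf b = a ^ orderOf b := by
      rw [(show Commute a b from hab).mul_pow, pow_orderOf_eq_one, mul_one]
    obtain ⟨k, hk⟩ : ∃ k : ℕ, (a ^ orderOf b) ^ k = a := exists_pow_eq_self_of_coprime hco.symm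
    have hmem : ((a * b) ^ orderOf b) ^ k ∈ Subgroup.zpowers (a * b) :=
      Subgroup.pow_mem _ (Subgroup.pow_mem _ (Subgroup.mem_zpowers _) _) _
    rwa [hb, hk] at hmem
  have h1 := C_eq_of_zpowers h hxy (key hc hcop) hxZ
  have h2 := C_eq_of_zpowers h hxy (hc ▸ key hc.symm hcop.symm) hyZ
  exact h1.symm.trans h2

omit h in
/-- An element of `N` outside `Z(N)` has a power with the same property and prime power order. -/
theorem exists_primary {x : G} (hxZ : x ∉ Z N) :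
    ∃ (p : ℕ) (y : G), p.Prime ∧ y ∈ Subgroup.zpowers x ∧ y ∉ Z N ∧ ∃ k, y ^ p ^ k = 1 := by
  induction hn : orderOf x using Nat.strong_induction_on generalizing x with
  | _ n ih =>
    have hx1 : orderOf x ≠ 1 := fun h1 => hxZ (orderOf_eq_one_iff.1 h1 ▸ (Z N).one_mem)
    obtain ⟨p, hp, hdvd⟩ := Nat.exists_prime_and_dvd hx1
    haveI := Fact.mk hp
    obtain ⟨u, v, hu, hv, huv, -, hk, hcop⟩ :=
      Transfer.PResidual.exists_pPart_mul_pPrimePart (p := p) x (isOfFinOrder_of_finite x)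
    by_cases huZ : u ∈ Z N
    · have hvZ : v ∉ Z N := fun hvZ => hxZ (huv ▸ (Z N).mul_mem huZ hvZ)
      have hlt : orderOf v < n := by
        subst hn
        refine lt_of_le_of_ne
          (Nat.le_of_dvd (orderOf_pos x) (orderOf_dvd_of_mem_zpowers hv)) fun heq => ?_
        rw [heq] at hcop
        exact hp.coprime_iff_not_dvd.1 hcop.symm hdvd
      obtain ⟨q, y, hq, hy, hyZ, hyk⟩ := ih _ hlt hvZ rfl
      exact ⟨q, y, hq, Subgroup.zpowers_le.2 hv hy, hyZ, hyk⟩
    · exact ⟨p, u, hp, hu, huZ, hk⟩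

theorem sup_C_eq_top {x : G} (hx : x ∈ N) (hxZ : x ∉ Z N) {U : Subgroup G} (hU : ¬ U ≤ C x) :
    U ⊔ C x = ⊤ :=
  (C_coatom h hx hxZ).2 _ (right_lt_sup.2 hU)

theorem dedekind {x : G} (hx : x ∈ N) (hxZ : x ∉ Z N) {U : Subgroup G} [U.Normal] (hUN : U ≤ N)
    (hU : ¬ U ≤ C x) {n : G} (hn : n ∈ N) : ∃ u ∈ U, ∃ m ∈ C x ⊓ N, u * m = n := by
  have : n ∈ U ⊔ C x := by rw [sup_C_eq_top h hx hxZ hU]; exact Subgroup.mem_top n
  obtain ⟨u, hu, m, hm, rfl⟩ := Subgroup.mem_sup_of_normal_left.1 this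
  exact ⟨u, hu, m, ⟨hm, by simpa using N.mul_mem (N.inv_mem (hUN hu)) hn⟩, rfl⟩

theorem normal_of_normalized {x : G} (hx : x ∈ N) (hxZ : x ∉ Z N) {U H : Subgroup G}
    (hU : ¬ U ≤ C x) (h1 : C x ≤ Subgroup.normalizer (H : Set G))
    (h2 : U ≤ Subgroup.normalizer (H : Set G)) : H.Normal := by
  rw [← Subgroup.normalizer_eq_top_iff, eq_top_iff, ← sup_C_eq_top h hx hxZ hU]
  exact sup_le h2 h1

omit h in
theorem C_le_normalizer_inf (x : G) {E : Subgroup G} (hE : E.Normal) :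
    C x ≤ Subgroup.normalizer ((E ⊓ C x : Subgroup G) : Set G) := by
  intro g hg
  rw [Subgroup.mem_normalizer_iff]
  intro a
  constructor
  · intro ha
    exact ⟨hE.conj_mem a ha.1 g, (C x).mul_mem ((C x).mul_mem hg ha.2) ((C x).inv_mem hg)⟩
  · intro ha
    refine ⟨?_, ?_⟩
    · simpa [mul_assoc] using hE.conj_mem _ ha.1 g⁻¹
    · simpa [mul_assoc] using (C x).mul_mem ((C x).mul_mem ((C x).inv_mem hg) ha.2) hg

/-- Centralizers in `N` of noncentral elements are nilpotent. -/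
theorem isNilpotent_inf {x : G} (hx : x ∈ N) (hxZ : x ∉ Z N) :
    Group.IsNilpotent (C x ⊓ N : Subgroup G) := by
  obtain ⟨p, x', hp, hx', hx'Z, hk⟩ := exists_primary (N := N) hxZ
  haveI := Fact.mk hp
  rw [C_eq_of_zpowers h hx hx' hx'Z]
  have hx'N : x' ∈ N := Subgroup.zpowers_le.2 hx hx'
  refine isNilpotent_of_central (p := p) fun y hy => Subgroup.mem_center_iff.2 fun g => ?_
  apply Subtype.ext
  by_cases hyZ : (y : G) ∈ Z N
  · exact (mem_Z.1 hyZ).2 g g.2.2
  · obtain ⟨k, hk⟩ := hk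
    obtain ⟨i, -, hi⟩ := (Nat.dvd_prime_pow hp).1 (orderOf_dvd_of_pow_eq_one hk)
    have heq : C x' = C (y : G) := C_eq_of_coprime h hx'N hx'Z y.2.2 hyZ (mem_C.1 y.2.1).symm
      (by rw [hi, Subgroup.orderOf_coe]; exact (hy.symm).pow_left i)
    exact mem_C.1 (heq ▸ g.2.1)

/-- Centralizers of noncentral elements modulo `Z(N)`. -/
theorem mem_C_of_commutator_mem {x n₀ g : G} (hx : x ∈ N) (hn₀ : n₀ ∈ N) (hbad : ⁅n₀, x⁆ ∉ Z N)
    (hg : ⁅g, x⁆ ∈ Z N) : g ∈ C x := by
  haveI := h.normal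
  have hxZ : x ∉ Z N := fun hxZ => hbad (by
    rw [show ⁅n₀, x⁆ = 1 from commutatorElement_eq_one_iff_mul_comm.2 ((mem_Z.1 hxZ).2 n₀ hn₀)]
    exact one_mem _)
  let q := QuotientGroup.mk' (Z N)
  have key : ∀ a : G, ⁅a, x⁆ ∈ Z N ↔ a ∈ (Subgroup.centralizer {q x}).comap q := fun a => by
    rw [Subgroup.mem_comap, Subgroup.mem_centralizer_singleton_iff,
      ← commutatorElement_eq_one_iff_mul_comm, ← map_commutatorElement]
    exact (QuotientGroup.eq_one_iff _).symm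
  have hle : C x ≤ (Subgroup.centralizer {q x}).comap q := fun a ha => (key a).1 (by
    rw [show ⁅a, x⁆ = 1 from commutatorElement_eq_one_iff_mul_comm.2 (mem_C.1 ha)]
    exact one_mem _)
  rcases lt_or_eq_of_le hle with hlt | heq
  · exfalso
    have htop := (C_coatom h hx hxZ).2 _ hlt
    exact hbad ((key n₀).2 (htop ▸ Subgroup.mem_top n₀))
  · exact heq ▸ (key g).1 hg

section Chief

variable {K : Subgroup G}

/-- `K/Z(N)` is a chief factor of `G` inside `N`. -/
structure Chief (N K : Subgroup G) : Prop where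
  normal : K.Normal
  lt : Z N < K
  le : K ≤ N
  minimal : ∀ U : Subgroup G, U.Normal → Z N ≤ U → U ≤ K → U = Z N ∨ U = K

omit h in
theorem exists_chief (hN : N.Normal) {U : Subgroup G} (hU : U.Normal) (hlt : Z N < U)
    (hle : U ≤ N) : ∃ K : Subgroup G, K ≤ U ∧ Chief N K := by
  classical
  obtain ⟨K, ⟨hK, hKlt, hKU⟩, hmin⟩ := (Set.toFinite
    {V : Subgroup G | V.Normal ∧ Z N < V ∧ V ≤ U}).exists_minimal ⟨U, hU, hlt, le_rfl⟩
  refine ⟨K, hKU, hK, hKlt, hKU.trans hle, fun V hV hZV hVK => ?_⟩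
  rcases lt_or_eq_of_le hZV with hlt' | heq
  · exact Or.inr (le_antisymm hVK (hmin ⟨hV, hlt', hVK.trans hKU⟩ hVK))
  · exact Or.inl heq.symm

/-- A chief factor is commutative. -/
theorem commutator_chief_mem (hK : Chief N K) {a b : G} (ha : a ∈ K) (hb : b ∈ K) :
    ⁅a, b⁆ ∈ Z N := by
  haveI := h.normal
  haveI := hK.normal
  let q := QuotientGroup.mk' (Z N)
  have hqs : Function.Surjective q := QuotientGroup.mk'_surjective _
  let Kb : Subgroup (G ⧸ Z N) := K.map q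
  haveI : Kb.Normal := hK.normal.map q hqs
  have hcomap : Kb.comap q = K := by
    rw [Subgroup.comap_map_eq, QuotientGroup.ker_mk', sup_eq_left.2 hK.lt.le]
  have hmin : ∀ V : Subgroup (G ⧸ Z N), V.Normal → V ≤ Kb → V = ⊥ ∨ V = Kb := by
    intro V hV hle
    have h1 : Z N ≤ V.comap q := fun z hz => by
      rw [Subgroup.mem_comap, show q z = 1 from (QuotientGroup.eq_one_iff z).2 hz]
      exact one_mem _
    rcases hK.minimal _ (hV.comap q) h1 (hcomap ▸ Subgroup.comap_mono hle) with h2 | h2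
    · left
      rw [← Subgroup.map_comap_eq_self_of_surjective hqs V, h2, QuotientGroup.map_mk'_self]
    · right
      rw [← Subgroup.map_comap_eq_self_of_surjective hqs V, h2]
  suffices hcomm : ∀ a ∈ Kb, ∀ b ∈ Kb, a * b = b * a by
    have := commutatorElement_eq_one_iff_mul_comm.2
      (hcomm _ (Subgroup.mem_map_of_mem q ha) _ (Subgroup.mem_map_of_mem q hb))
    rw [← map_commutatorElement] at this
    exact (QuotientGroup.eq_one_iff _).1 this
  by_contra hne
  have hZK : Kb ⊓ Subgroup.centralizer (Kb : Set (G ⧸ Z N)) = ⊥ := by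
    rcases hmin (Kb ⊓ Subgroup.centralizer (Kb : Set (G ⧸ Z N))) inferInstance inf_le_left with h1 | h1
    · exact h1
    · exact absurd (fun a ha b hb => ((h1.ge hb).2 a ha)) hne
  have hcent : Subgroup.center Kb = ⊥ := by
    rw [eq_bot_iff]
    intro z hz
    have : z.1 ∈ Kb ⊓ Subgroup.centralizer (Kb : Set (G ⧸ Z N)) :=
      ⟨z.2, fun k hk => congrArg Subtype.val (Subgroup.mem_center_iff.1 hz ⟨k, hk⟩)⟩
    rw [hZK, Subgroup.mem_bot] at this
    exact Subgroup.mem_bot.2 (Subtype.ext this)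
  haveI : Nontrivial Kb := by
    by_contra hnt
    rw [not_nontrivial_iff_subsingleton] at hnt
    exact hne fun a ha b hb => congrArg Subtype.val
      (Subsingleton.elim (⟨a, ha⟩ * ⟨b, hb⟩ : Kb) (⟨b, hb⟩ * ⟨a, ha⟩))
  have hnn : ¬ Group.IsNilpotent Kb := fun hn => Group.IsNilpotent.center_ne_bot (G := Kb) hcent
  -- an odd prime
  obtain ⟨p, hp, hp2, hdvd⟩ : ∃ p, p.Prime ∧ p ≠ 2 ∧ p ∣ Nat.card Kb := by
    by_contra hno
    push Not at hno
    haveI := Fact.mk Nat.prime_two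
    have h2 := Nat.eq_prime_pow_of_unique_prime_dvd (p := 2) (Nat.card_pos (α := Kb)).ne'
      fun {d} hd hdd => by
        by_contra hne2
        exact hno d hd hne2 hdd
    exact hnn (IsPGroup.of_card h2).isNilpotent
  haveI := Fact.mk hp
  obtain ⟨P⟩ : Nonempty (Sylow p Kb) := inferInstance
  let Pg : Subgroup (G ⧸ Z N) := (P : Subgroup Kb).map Kb.subtype
  have hPgK : Pg ≤ Kb := Subgroup.map_subtype_le _
  have hPgp : IsPGroup p Pg := P.isPGroup'.map _
  have hPne : Pg ≠ ⊥ := fun h0 => by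
    have h1 := (Nat.card_congr
      ((P : Subgroup Kb).equivMapOfInjective Kb.subtype Kb.subtype_injective).toEquiv).symm
    rw [show (P : Subgroup Kb).map Kb.subtype = ⊥ from h0, Subgroup.card_bot] at h1
    have := P.dvd_card_of_dvd_card hdvd
    rw [← h1] at this
    exact hp.ne_one (Nat.dvd_one.1 this)
  obtain ⟨z, hz, hz1⟩ := (Subgroup.bot_or_exists_ne_one _).resolve_left
    (Frobenius.PComplement.inf_centralizer_ne_bot hPgp hPne)
  obtain ⟨x, hxK, rfl⟩ := hPgK hz.1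
  obtain ⟨k₀, hk₀K, hk₀⟩ : ∃ k ∈ K, ⁅k, x⁆ ∉ Z N := by
    by_contra hall
    push Not at hall
    have : q x ∈ Kb ⊓ Subgroup.centralizer (Kb : Set (G ⧸ Z N)) := by
      refine ⟨Subgroup.mem_map_of_mem q hxK, ?_⟩
      rintro _ ⟨k, hk, rfl⟩
      rw [← commutatorElement_eq_one_iff_mul_comm, ← map_commutatorElement]
      exact (QuotientGroup.eq_one_iff _).2 (hall k hk)
    rw [hZK, Subgroup.mem_bot] at this
    exact hz1 this
  have hxN : x ∈ N := hK.le hxK
  have hxZ : x ∉ Z N := fun h0 => hz1 ((QuotientGroup.eq_one_iff x).2 h0)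
  let Mb : Subgroup (G ⧸ Z N) := (C x).map q
  let W : Subgroup (G ⧸ Z N) := Mb ⊓ Kb
  have hcent' : ∀ a : G ⧸ Z N, a * q x = q x * a → a ∈ Mb := by
    intro a ha
    obtain ⟨g, rfl⟩ := hqs a
    refine Subgroup.mem_map_of_mem q
      (mem_C_of_commutator_mem h hxN (hK.le hk₀K) hk₀ ((QuotientGroup.eq_one_iff _).1 ?_))
    show q ⁅g, x⁆ = 1
    rw [map_commutatorElement]
    exact commutatorElement_eq_one_iff_mul_comm.2 ha
  have hWnil : Group.IsNilpotent W := by
    haveI := isNilpotent_inf h hxN hxZ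
    have hle : W ≤ (C x ⊓ N).map q := by
      rintro a ⟨⟨m, hm, rfl⟩, hk⟩
      exact ⟨m, ⟨hm, hK.le (hcomap.le hk)⟩, rfl⟩
    haveI := Group.nilpotent_of_surjective (q.subgroupMap (C x ⊓ N))
      (q.subgroupMap_surjective _)
    exact Group.nilpotent_of_mulEquiv (Subgroup.subgroupOfEquivOfLe hle)
  have hPW : Pg ≤ W := fun a ha =>
    ⟨hcent' a (hz.2 a ha), hPgK ha⟩
  have hMW : ∀ g ∈ Mb, ∀ a ∈ W, g * a * g⁻¹ ∈ W := fun g hg a ha =>
    ⟨Mb.mul_mem (Mb.mul_mem hg ha.1) (Mb.inv_mem hg),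
      Subgroup.Normal.conj_mem inferInstance a ha.2 g⟩
  -- `Pg` is the Sylow subgroup of the nilpotent group `W`
  have hPuniq : ∀ S : Subgroup (G ⧸ Z N), S ≤ W → IsPGroup p S → S ≤ Pg := by
    intro S hS hSp
    haveI := hWnil
    obtain ⟨R, hR⟩ := IsPGroup.exists_le_sylow
      (hSp.comap_of_injective W.subtype W.subtype_injective)
    obtain ⟨R', hR'⟩ := IsPGroup.exists_le_sylow
      (hPgp.comap_of_injective W.subtype W.subtype_injective)
    haveI hRn : (R' : Subgroup W).Normal := R'.normal_of_normalizerCondition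
      Group.normalizerCondition_of_isNilpotent
    haveI := R'.unique_of_normal hRn
    obtain rfl : R = R' := Subsingleton.elim _ _
    let Rg : Subgroup (G ⧸ Z N) := (R : Subgroup W).map W.subtype
    have hRgK : Rg ≤ Kb := (Subgroup.map_subtype_le _).trans inf_le_right
    have h1 : Rg.subgroupOf Kb = (P : Subgroup Kb) := by
      refine P.is_maximal' ((R.isPGroup'.map _).comap_of_injective Kb.subtype Kb.subtype_injective)
        ?_
      intro a ha
      have hmem : (a : G ⧸ Z N) ∈ Pg := Subgroup.mem_map_of_mem Kb.subtype ha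
      exact ⟨⟨a.1, hPW hmem⟩, hR' (show (⟨a.1, hPW hmem⟩ : W).1 ∈ Pg from hmem), rfl⟩
    intro a ha
    have h2 : a ∈ Rg := ⟨⟨a, hS ha⟩, hR ha, rfl⟩
    exact ⟨⟨a, hRgK h2⟩, h1.le h2, rfl⟩
  have hnorm : ∀ g ∈ Mb, Pg.map (MulAut.conj g).toMonoidHom = Pg := by
    intro g hg
    have hle : Pg.map (MulAut.conj g).toMonoidHom ≤ Pg := by
      refine hPuniq _ ?_ (hPgp.map _)
      rintro _ ⟨a, ha, rfl⟩
      exact hMW g hg a (hPW ha)
    exact Subgroup.eq_of_le_of_card_ge hle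
      (Subgroup.card_map_of_injective (MulAut.conj g).injective).ge
  let J := Cfsg.thompsonSubgroupOf p Pg
  have hJP : J ≤ Pg := Subgroup.map_subtype_le _
  have hMJ : Mb ≤ Subgroup.normalizer (J : Set (G ⧸ Z N)) := by
    have key : ∀ g ∈ Mb, ∀ a ∈ J, g * a * g⁻¹ ∈ J := by
      intro g hg a ha
      have hm := Frobenius.PComplement.map_thompsonSubgroupOf_of_injOn (p := p)
        (MulAut.conj g).toMonoidHom Pg ((MulAut.conj g).injective.comp Pg.subtype_injective)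
      rw [hnorm g hg] at hm
      exact hm.le (Subgroup.mem_map_of_mem _ ha)
    intro g hg
    rw [Subgroup.mem_normalizer_iff]
    intro a
    refine ⟨key g hg a, fun ha => ?_⟩
    simpa [mul_assoc] using key g⁻¹ (Mb.inv_mem hg) _ ha
  have hJN : Subgroup.normalizer (J : Set (G ⧸ Z N)) = Mb := by
    refine le_antisymm (fun a ha => ?_) hMJ
    obtain ⟨g, rfl⟩ := hqs a
    have hle : C x ≤ (Subgroup.normalizer (J : Set (G ⧸ Z N))).comap q := fun g hg =>
      hMJ (Subgroup.mem_map_of_mem q hg)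
    rcases lt_or_eq_of_le hle with hlt | heq
    · exfalso
      have htop := (C_coatom h hxN hxZ).2 _ hlt
      have hJn : J.Normal := by
        rw [← Subgroup.normalizer_eq_top_iff, eq_top_iff]
        intro b _
        obtain ⟨c, rfl⟩ := hqs b
        exact Subgroup.mem_comap.1 (htop ▸ Subgroup.mem_top c)
      rcases hmin J hJn (hJP.trans hPgK) with h1 | h1
      · exact Frobenius.PComplement.thompsonSubgroupOf_ne_bot hPgp hPne h1
      · exact hnn (hPgp.to_le (h1 ▸ hJP)).isNilpotent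
    · exact Subgroup.mem_map_of_mem q (heq ▸ Subgroup.mem_comap.2 ha)
  have hWc : Cfsg.HasNormalPComplement p W := by
    haveI := hWnil
    exact Transfer.Frobenius.hasNormalPComplement_of_isNilpotent
  have hcompl : Cfsg.HasNormalPComplement p Kb := by
    refine Frobenius.PComplement.hasNormalPComplement_of_thompson hp2 P ⟨?_, ?_⟩
    · refine Frobenius.PComplement.hnpc_of_map_le Kb.subtype Kb.subtype_injective ?_ hWc
      rintro _ ⟨k, hk, rfl⟩
      refine ⟨?_, k.2⟩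
      rw [← hJN]
      have hm := Frobenius.PComplement.map_thompsonSubgroupOf_of_injOn (p := p)
        Kb.subtype (P : Subgroup Kb) (Kb.subtype_injective.comp (P : Subgroup Kb).subtype_injective)
      show (k : G ⧸ Z N) ∈ Subgroup.normalizer (J : Set (G ⧸ Z N))
      rw [Subgroup.mem_normalizer_iff]
      intro a
      show a ∈ Cfsg.thompsonSubgroupOf p Pg ↔
        (k : G ⧸ Z N) * a * (k : G ⧸ Z N)⁻¹ ∈ Cfsg.thompsonSubgroupOf p Pg
      rw [show Cfsg.thompsonSubgroupOf p Pg =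
        (Cfsg.thompsonSubgroupOf p (P : Subgroup Kb)).map Kb.subtype from hm.symm]
      constructor
      · rintro ⟨b, hb, rfl⟩
        exact ⟨k * b * k⁻¹, (Subgroup.mem_normalizer_iff.1 hk b).1 hb, rfl⟩
      · rintro ⟨b, hb, hba⟩
        refine ⟨k⁻¹ * b * k, (Subgroup.mem_normalizer_iff.1 hk _).2 ?_, ?_⟩
        · simpa [mul_assoc] using hb
        · simp only [map_mul, map_inv]
          rw [hba]
          simp [mul_assoc]
    · refine Frobenius.PComplement.hnpc_of_map_le Kb.subtype Kb.subtype_injective ?_ hWc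
      rintro _ ⟨k, hk, rfl⟩
      refine ⟨hcent' _ ?_, k.2⟩
      obtain ⟨zz, hzz, hzeq⟩ := hz.1
      have hzz' : zz ∈ (P : Subgroup Kb) ⊓ Subgroup.centralizer ((P : Subgroup Kb) : Set Kb) :=
        ⟨hzz, fun b hb => Kb.subtype_injective (by
          rw [map_mul, map_mul, hzeq]; exact hz.2 _ (Subgroup.mem_map_of_mem Kb.subtype hb))⟩
      have := congrArg Subtype.val (hk zz hzz')
      rw [← hzeq]
      exact this.symm
  obtain ⟨P', Nc, hNc, hc⟩ := hcompl
  haveI := hNc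
  have hperf : commutator Kb = ⊤ := by
    apply Subgroup.map_injective Kb.subtype_injective
    rw [Subgroup.map_subtype_commutator, ← MonoidHom.range_eq_map, Subgroup.range_subtype]
    rcases hmin _ inferInstance (Subgroup.commutator_le_self Kb) with h1 | h1
    · exact absurd (fun a ha b hb => commutatorElement_eq_one_iff_mul_comm.1 (Subgroup.mem_bot.1
        (h1 ▸ Subgroup.commutator_mem_commutator ha hb))) hne
    · exact h1
  have hQ : IsPGroup p (Kb ⧸ Nc) := by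
    obtain ⟨i, hi⟩ := IsPGroup.iff_card.1 P'.isPGroup'
    refine IsPGroup.of_card (n := i) ?_
    rw [← Subgroup.index_eq_card, hc.symm.index_eq_card, hi]
  have hQperf : commutator (Kb ⧸ Nc) = ⊤ := by
    have := congrArg (Subgroup.map (QuotientGroup.mk' Nc)) hperf
    rwa [_root_.commutator_def, Subgroup.map_commutator,
      Subgroup.map_top_of_surjective _ (QuotientGroup.mk'_surjective Nc),
      ← _root_.commutator_def] at this
  haveI : Subsingleton (Kb ⧸ Nc) := by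
    by_contra hns
    rw [not_subsingleton_iff_nontrivial] at hns
    haveI := hQ.isNilpotent
    haveI : Group.IsPerfect (Kb ⧸ Nc) := ⟨hQperf⟩
    exact Group.IsPerfect.not_isNilpotent (Kb ⧸ Nc) inferInstance
  have hNtop : Nc = ⊤ := by
    rw [← Subgroup.index_eq_one, Subgroup.index_eq_card, Nat.card_of_subsingleton 1]
  have h1 := hc.card_mul_card
  rw [hNtop, Subgroup.card_top] at h1
  have h2 := P'.dvd_card_of_dvd_card hdvd
  have h3 : Nat.card (P' : Subgroup Kb) = 1 :=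
    Nat.eq_of_mul_eq_mul_left (Nat.card_pos (α := Kb)) (h1.trans (mul_one _).symm)
  exact hp.ne_one (Nat.dvd_one.1 (h3 ▸ h2))

/-- A chief factor is an abelian subgroup. -/
theorem chief_comm (hK : Chief N K) {a b : G} (ha : a ∈ K) (hb : b ∈ K) : a * b = b * a := by
  haveI := h.normal
  haveI := hK.normal
  by_contra hne
  have hsub : Z N ≤ K ⊓ Subgroup.centralizer (K : Set G) :=
    le_inf hK.lt.le fun z hz k hk => (mem_Z.1 hz).2 k (hK.le hk)
  rcases hK.minimal _ inferInstance hsub inf_le_left with h1 | h1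
  swap
  · exact hne (((h1.ge hb).2 a ha))
  obtain ⟨y, hyK, hyZ⟩ := SetLike.exists_of_lt hK.lt
  have hyN := hK.le hyK
  have hnle : ¬ K ≤ C y := fun hle => hyZ (h1.le ⟨hyK, fun k hk => mem_C.1 (hle hk)⟩)
  have hnorm : (K ⊓ C y).Normal := by
    refine normal_of_normalized h hyN hyZ hnle (C_le_normalizer_inf y hK.normal) fun k hk => ?_
    have key : ∀ k ∈ K, ∀ w ∈ K ⊓ C y, k * w * k⁻¹ ∈ K ⊓ C y := by
      intro k hk w hw
      have hc := commutator_chief_mem h hK hk hw.1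
      rw [show k * w * k⁻¹ = ⁅k, w⁆ * w by rw [commutatorElement_def]; group]
      exact (K ⊓ C y).mul_mem ⟨hK.lt.le hc, Z_le_C hyN hc⟩ hw
    rw [Subgroup.mem_normalizer_iff]
    intro w
    refine ⟨key k hk w, fun hw => ?_⟩
    simpa [mul_assoc] using key k⁻¹ (K.inv_mem hk) _ hw
  rcases hK.minimal _ hnorm (le_inf hK.lt.le (Z_le_C hyN)) inf_le_left with h2 | h2
  · exact hyZ (h2.le ⟨hyK, self_mem_C y⟩)
  · exact hnle (h2.ge.trans inf_le_right)

/-- A chief factor is elementary. -/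
theorem chief_exponent (hK : Chief N K) : ∃ p : ℕ, p.Prime ∧ ∀ k ∈ K, k ^ p ∈ Z N := by
  haveI := h.normal
  haveI := hK.normal
  obtain ⟨y, hyK, hyZ⟩ := SetLike.exists_of_lt hK.lt
  obtain ⟨p, y', hp, hy', hy'Z, i, hi⟩ := exists_primary (N := N) hyZ
  refine ⟨p, hp, ?_⟩
  let U : Subgroup G :=
    { carrier := {k | k ∈ K ∧ k ^ p ∈ Z N}
      one_mem' := ⟨K.one_mem, by simp⟩
      mul_mem' := fun {a b} ha hb => ⟨K.mul_mem ha.1 hb.1, by
        rw [(show Commute a b from chief_comm h hK ha.1 hb.1).mul_pow]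
        exact (Z N).mul_mem ha.2 hb.2⟩
      inv_mem' := fun {a} ha => ⟨K.inv_mem ha.1, by rw [inv_pow]; exact (Z N).inv_mem ha.2⟩ }
  have hUn : U.Normal := ⟨fun a ha g => ⟨hK.normal.conj_mem a ha.1 g, by
    rw [conj_pow]; exact (Z_normal h.normal).conj_mem _ ha.2 g⟩⟩
  rcases hK.minimal U hUn (fun z hz => ⟨hK.lt.le hz, (Z N).pow_mem hz p⟩) (fun a ha => ha.1)
    with h1 | h1
  swap
  · intro k' hk'; exact (h1.ge hk').2
  exfalso
  -- the last power of `y'` outside `Z N` lies in `U`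
  classical
  have hex : ∃ j, y' ^ p ^ j ∈ Z N := ⟨i, hi ▸ (Z N).one_mem⟩
  obtain ⟨j, hj⟩ : ∃ j, Nat.find hex = j + 1 := by
    refine Nat.exists_eq_succ_of_ne_zero fun h0 => hy'Z ?_
    have hs := Nat.find_spec hex
    rw [h0, pow_zero, pow_one] at hs
    exact hs
  refine Nat.find_min hex (show j < Nat.find hex by omega)
    (h1.le ⟨K.pow_mem (Subgroup.zpowers_le.2 hyK hy') _, ?_⟩)
  rw [← pow_mul, ← pow_succ, ← hj]
  exact Nat.find_spec hex

omit h in
theorem exists_pElement_of_exponent {k : G} {p : ℕ} (hk : k ∉ Z N) (hkp : k ^ p ∈ Z N)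
    {q : ℕ} {y : G} (hq : q.Prime) (hp : p.Prime) (hy : y ∈ Subgroup.zpowers k) (hyZ : y ∉ Z N)
    {i : ℕ} (hi : y ^ q ^ i = 1) : q = p := by
  by_contra hne
  obtain ⟨j, rfl⟩ := hy
  have h1 : (k ^ j) ^ p ∈ Z N := by
    rw [← zpow_natCast, ← zpow_mul, mul_comm, zpow_mul, zpow_natCast]
    exact (Z N).zpow_mem hkp j
  have hcop : p.Coprime (q ^ i) := ((Nat.coprime_primes hp hq).2 (Ne.symm hne)).pow_right i
  apply hyZ
  show k ^ j ∈ Z N
  have hb := Nat.gcd_eq_gcd_ab p (q ^ i)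
  rw [hcop.gcd_eq_one] at hb
  rw [← zpow_one (k ^ j), show ((1 : ℤ)) = ((1 : ℕ) : ℤ) from rfl, hb, zpow_add,
    zpow_mul, zpow_mul, zpow_natCast, zpow_natCast, hi, one_zpow, mul_one]
  exact (Z N).zpow_mem h1 _

/-- `C_N(K)`. -/
abbrev CK (N K : Subgroup G) : Subgroup G := N ⊓ Subgroup.centralizer (K : Set G)

theorem le_CK (hK : Chief N K) : K ≤ CK N K :=
  fun _ hk => ⟨hK.le hk, fun _ hb => chief_comm h hK hb hk⟩

theorem CK_normal (hK : Chief N K) : (CK N K).Normal := by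
  haveI := h.normal
  haveI := hK.normal
  infer_instance

theorem inf_C_eq (hK : Chief N K) {y : G} (hy : y ∈ N) (hyC : y ∉ CK N K) : K ⊓ C y = Z N := by
  have hyZ : y ∉ Z N := fun hyZ => hyC ⟨hy, fun k hk => (mem_Z.1 hyZ).2 k (hK.le hk)⟩
  have hnle : ¬ K ≤ C y := fun hle => hyC ⟨hy, fun k hk => mem_C.1 (hle hk)⟩
  have hn : (K ⊓ C y).Normal := by
    refine normal_of_normalized h hy hyZ hnle (C_le_normalizer_inf y hK.normal) fun k hk => ?_
    rw [Subgroup.mem_normalizer_iff]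
    intro w
    constructor
    · intro hw
      rwa [chief_comm h hK hk hw.1, mul_inv_cancel_right]
    · intro hw
      have hwK : w ∈ K := by simpa [mul_assoc] using hK.normal.conj_mem _ hw.1 k⁻¹
      rwa [chief_comm h hK hk hwK, mul_inv_cancel_right] at hw
  rcases hK.minimal _ hn (le_inf hK.lt.le (Z_le_C hy)) inf_le_left with h1 | h1
  · exact h1
  · exact absurd (h1.ge.trans inf_le_right) hnle

theorem C_inf_eq_CK (hK : Chief N K) {k : G} (hk : k ∈ K) (hkZ : k ∉ Z N) :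
    C k ⊓ N = CK N K := by
  refine le_antisymm (fun y hy => ?_) (fun y hy => ⟨mem_C.2 (hy.2 k hk).symm, hy.1⟩)
  by_contra hyC
  exact hkZ ((inf_C_eq h hK hy.2 hyC).le ⟨hk, mem_C.2 (mem_C.1 hy.1).symm⟩)

theorem CK_chief (hK : Chief N K) {U : Subgroup G} (hUn : U.Normal) (hCU : CK N K ≤ U)
    (hUN : U ≤ N) (hne : ¬ U ≤ CK N K) : U = N := by
  obtain ⟨k, hk, hkZ⟩ := SetLike.exists_of_lt hK.lt
  have hU : ¬ U ≤ C k := fun hle =>
    hne fun u hu => (C_inf_eq_CK h hK hk hkZ).le ⟨hle hu, hUN hu⟩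
  refine le_antisymm hUN fun n hn => ?_
  obtain ⟨u, hu, m, hm, rfl⟩ := dedekind h (hK.le hk) hkZ hUN hU hn
  exact U.mul_mem hu (hCU ((C_inf_eq_CK h hK hk hkZ).le hm))

/-- If some noncentral element is central modulo `Z(N)` then `N` is nilpotent. -/
theorem isNilpotent_of_secondCenter {k₀ : G} (hk₀ : k₀ ∈ N) (hk₀Z : k₀ ∉ Z N)
    (hc : ∀ n ∈ N, ⁅n, k₀⁆ ∈ Z N) : Group.IsNilpotent N := by
  haveI := h.normal
  let q := QuotientGroup.mk' (Z N)
  let R : Subgroup G := N ⊓ (Subgroup.centralizer ((N.map q : Subgroup (G ⧸ Z N)) :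
    Set (G ⧸ Z N))).comap q
  haveI : (N.map q).Normal := h.normal.map q (QuotientGroup.mk'_surjective _)
  have hRmem : ∀ r : G, r ∈ R → ∀ n ∈ N, ⁅n, r⁆ ∈ Z N := fun r hr n hn => by
    have := hr.2 (q n) (Subgroup.mem_map_of_mem q hn)
    rw [← commutatorElement_eq_one_iff_mul_comm, ← map_commutatorElement] at this
    exact (QuotientGroup.eq_one_iff _).1 this
  have hk₀R : k₀ ∈ R := by
    refine ⟨hk₀, ?_⟩
    rintro _ ⟨n, hn, rfl⟩
    rw [← commutatorElement_eq_one_iff_mul_comm, ← map_commutatorElement]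
    exact (QuotientGroup.eq_one_iff _).2 (hc n hn)
  have hZR : Z N ≤ R := fun z hz => ⟨hz.1, by
    show q z ∈ Subgroup.centralizer ((N.map q : Subgroup (G ⧸ Z N)) : Set (G ⧸ Z N))
    rw [show q z = 1 from (QuotientGroup.eq_one_iff z).2 hz]
    exact one_mem _⟩
  obtain ⟨K, hKR, hK⟩ := exists_chief h.normal (U := R) inferInstance
    (lt_of_le_of_ne hZR fun he => hk₀Z (he.ge hk₀R)) inf_le_left
  obtain ⟨p, hp, hexp⟩ := chief_exponent h hK
  haveI := Fact.mk hp
  obtain ⟨k', hk'K, hk'Z⟩ := SetLike.exists_of_lt hK.lt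
  obtain ⟨r, k, hr, hkk', hkZ, i, hi⟩ := exists_primary (N := N) hk'Z
  obtain rfl : r = p := exists_pElement_of_exponent hk'Z (hexp _ hk'K) hr hp hkk' hkZ hi
  have hkK : k ∈ K := Subgroup.zpowers_le.2 hk'K hkk'
  refine isNilpotent_of_central (p := r) fun y hy => ?_
  by_contra hyc
  have hyZ : (y : G) ∉ Z N := fun hyZ => hyc (Subgroup.mem_center_iff.2 fun g =>
    Subtype.ext ((mem_Z.1 hyZ).2 g g.2))
  have hyk : (y : G) * k = k * y := by
    rw [← commutatorElement_eq_one_iff_mul_comm]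
    have hcz : ⁅(y : G), k⁆ ∈ Z N := hRmem k (hKR hkK) y y.2
    set c := ⁅(y : G), k⁆ with hcdef
    have hcy : Commute c (y : G) := ((mem_Z.1 hcz).2 _ y.2).symm
    have hck : Commute c k := ((mem_Z.1 hcz).2 _ (hK.le hkK)).symm
    have h1 : (y : G) * k * (y : G)⁻¹ = c * k := by rw [hcdef, commutatorElement_def]; group
    have h2 : k⁻¹ * y * k = c * y := by
      calc k⁻¹ * y * k = k⁻¹ * ((y : G) * k * (y : G)⁻¹) * y := by group
        _ = c * y := by
          rw [h1, ← mul_assoc k⁻¹ c k, ← (hck.inv_right).eq, mul_assoc c, inv_mul_cancel, mul_one]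
    have hck1 : c ^ (r ^ i) = 1 := by
      have h3 := congrArg (fun t => t ^ (r ^ i)) h1
      simp only [conj_pow, hi, mul_one, mul_inv_cancel, hck.mul_pow] at h3
      exact h3.symm
    have hcy1 : c ^ orderOf (y : G) = 1 := by
      have h3 := congrArg (fun t => t ^ orderOf (y : G)) h2
      have h4 : (k⁻¹ * (y : G) * k) ^ orderOf (y : G) = 1 := by
        have := conj_pow (a := k⁻¹) (b := (y : G)) (i := orderOf (y : G))
        rw [inv_inv, pow_orderOf_eq_one, mul_one, inv_mul_cancel] at this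
        exact this
      simp only [h4, hcy.mul_pow, pow_orderOf_eq_one, mul_one] at h3
      exact h3.symm
    rw [← orderOf_eq_one_iff]
    refine Nat.eq_one_of_dvd_coprimes ?_ (orderOf_dvd_of_pow_eq_one hck1)
      (orderOf_dvd_of_pow_eq_one hcy1)
    rw [Subgroup.orderOf_coe]
    exact hy.symm.pow_left i
  obtain ⟨j, -, hj⟩ := (Nat.dvd_prime_pow hp).1 (orderOf_dvd_of_pow_eq_one hi)
  have heq : C k = C (y : G) := C_eq_of_coprime h (hK.le hkK) hkZ y.2 hyZ hyk.symm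
    (by rw [hj, Subgroup.orderOf_coe]; exact hy.symm.pow_left j)
  have hCd : ∀ d ∈ CK N K, d ∉ Z N → C d = C k := by
    intro d hd hdZ
    obtain ⟨s, d', hs, hd', hd'Z, m, hm⟩ := exists_primary (N := N) hdZ
    rw [C_eq_of_zpowers h hd.1 hd' hd'Z]
    have hd'C : d' ∈ CK N K := Subgroup.zpowers_le.2 hd hd'
    obtain ⟨a, -, ha⟩ := (Nat.dvd_prime_pow hs).1 (orderOf_dvd_of_pow_eq_one hm)
    by_cases hsr : s = r
    · subst hsr
      refine (C_eq_of_coprime h hd'C.1 hd'Z y.2 hyZ ?_ ?_).trans heq.symm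
      · have : d' ∈ C (y : G) := heq ▸ mem_C.2 (hd'C.2 k hkK).symm
        exact mem_C.1 this
      · rw [ha, Subgroup.orderOf_coe]; exact hy.symm.pow_left a
    · refine C_eq_of_coprime h hd'C.1 hd'Z (hK.le hkK) hkZ (hd'C.2 k hkK).symm ?_
      rw [ha, hj]
      exact ((Nat.coprime_primes hs hp).2 hsr).pow _ _
  have hyC : (y : G) ∈ CK N K :=
    (C_inf_eq_CK h hK hkK hkZ).le ⟨heq ▸ self_mem_C _, y.2⟩
  obtain ⟨u, hu, huC⟩ : ∃ u ∈ N, u ∉ C k := SetLike.not_le_iff_exists.1 (not_le_C (hK.le hkK) hkZ)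
  have huCK : u ∉ CK N K := fun hu' => huC ((C_inf_eq_CK h hK hkK hkZ).ge hu').1
  have huZ : u ∉ Z N := fun huZ => huC (Z_le_C (hK.le hkK) huZ)
  haveI := hK.normal
  have hKu : ¬ K ≤ C u := fun hle => hkZ ((inf_C_eq h hK hu huCK).le ⟨hkK, hle hkK⟩)
  obtain ⟨a, ha, m, hm, ham⟩ := dedekind h hu huZ hK.le hKu y.2
  have hmZ : m ∈ Z N := by
    by_contra hmZ
    have hmC : m ∈ CK N K := by
      have : a⁻¹ * (y : G) ∈ CK N K :=
        (CK N K).mul_mem ((CK N K).inv_mem (le_CK h hK ha)) hyC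
      rwa [← ham, inv_mul_cancel_left] at this
    have := hCd m hmC hmZ
    exact huC (this ▸ mem_C.2 (mem_C.1 hm.1).symm)
  have hyK : (y : G) ∈ K := ham ▸ K.mul_mem ha (hK.lt.le hmZ)
  obtain ⟨s, y', hs, hy', hy'Z, t, ht⟩ := exists_primary (N := N) hyZ
  obtain rfl : s = r := exists_pElement_of_exponent hyZ (hexp _ hyK) hs hp hy' hy'Z ht
  obtain ⟨a', -, ha'⟩ := (Nat.dvd_prime_pow hp).1 (orderOf_dvd_of_pow_eq_one ht)
  have hdv := orderOf_dvd_of_mem_zpowers hy'
  rw [ha', Subgroup.orderOf_coe] at hdv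
  rcases Nat.eq_zero_or_pos a' with h0 | hpos
  · rw [h0, pow_zero, orderOf_eq_one_iff] at ha'
    exact hy'Z (ha' ▸ (Z N).one_mem)
  · exact hp.coprime_iff_not_dvd.1 hy.symm ((dvd_pow_self s hpos.ne').trans hdv)

/-- In the non-nilpotent case centralizers modulo `Z(N)` of noncentral elements are as expected. -/
theorem mem_C_of_not_nilpotent (hnn : ¬ Group.IsNilpotent N) {x g : G} (hx : x ∈ N)
    (hxZ : x ∉ Z N) (hg : ⁅g, x⁆ ∈ Z N) : g ∈ C x := by
  obtain ⟨n₀, hn₀, hbad⟩ : ∃ n₀ ∈ N, ⁅n₀, x⁆ ∉ Z N := by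
    by_contra hall
    push Not at hall
    exact hnn (isNilpotent_of_secondCenter h hx hxZ hall)
  exact mem_C_of_commutator_mem h hx hn₀ hbad hg

/-- In the non-nilpotent case a chief factor is self-centralizing in `N`. -/
theorem CK_eq (hnn : ¬ Group.IsNilpotent N) (hK : Chief N K) : CK N K = K := by
  haveI := h.normal
  haveI := hK.normal
  haveI := CK_normal h hK
  refine le_antisymm ?_ (le_CK h hK)
  intro c hc
  by_contra hcK
  obtain ⟨k, hk, hkZ⟩ := SetLike.exists_of_lt hK.lt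
  -- an element outside `C_N(K)`
  obtain ⟨y, hy, hyC⟩ : ∃ y ∈ N, y ∉ CK N K := by
    obtain ⟨y, hy, hyk⟩ := SetLike.not_le_iff_exists.1 (not_le_C (hK.le hk) hkZ)
    exact ⟨y, hy, fun hyC => hyk ((C_inf_eq_CK h hK hk hkZ).ge hyC).1⟩
  have hyZ : y ∉ Z N := fun hyZ => hyC ⟨hy, fun a ha => (mem_Z.1 hyZ).2 a (hK.le ha)⟩
  have hKy : ¬ K ≤ C y := fun hle => hkZ ((inf_C_eq h hK hy hyC).le ⟨hk, hle hk⟩)
  let D := CK N K ⊓ C y
  have hDn : D.Normal := by
    refine normal_of_normalized h hy hyZ hKy (C_le_normalizer_inf y (CK_normal h hK)) fun a ha => ?_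
    rw [Subgroup.mem_normalizer_iff]
    intro w
    constructor
    · intro hw
      rwa [hw.1.2 a ha, mul_inv_cancel_right]
    · intro hw
      have hwC : w ∈ CK N K := by
        simpa [mul_assoc] using (CK_normal h hK).conj_mem _ hw.1 a⁻¹
      rwa [hwC.2 a ha, mul_inv_cancel_right] at hw
  have hZD : Z N ≤ D := le_inf (hK.lt.le.trans (le_CK h hK)) (Z_le_C hy)
  obtain ⟨a, ha, m, hm, ham⟩ := dedekind h hy hyZ hK.le hKy hc.1
  have hmD : m ∈ D := ⟨by
    have := (CK N K).mul_mem ((CK N K).inv_mem (le_CK h hK ha)) hc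
    rwa [← ham, inv_mul_cancel_left] at this, hm.1⟩
  have hlt : Z N < D := lt_of_le_of_ne hZD fun he =>
    hcK (ham ▸ K.mul_mem ha (hK.lt.le (he.ge hmD)))
  obtain ⟨K₂, hK₂D, hK₂⟩ := exists_chief h.normal hDn hlt (inf_le_left.trans inf_le_left)
  haveI := hK₂.normal
  obtain ⟨k₂, hk₂, hk₂Z⟩ := SetLike.exists_of_lt hK₂.lt
  have hdisj : ∀ x ∈ K, x ∈ K₂ → x ∈ Z N := fun x hx hx2 =>
    (inf_C_eq h hK hy hyC).le ⟨hx, (hK₂D hx2).2⟩
  have hyC₂ : y ∈ CK N K₂ := ⟨hy, fun x hx => mem_C.1 (hK₂D hx).2⟩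
  have hKC₂ : K ≤ CK N K₂ := fun x hx => ⟨hK.le hx, fun z hz => ((hK₂D hz).1.2 x hx).symm⟩
  let w := k * k₂
  have hwN : w ∈ N := N.mul_mem (hK.le hk) (hK₂.le hk₂)
  have hwZ : w ∉ Z N := by
    intro hwZ
    refine hkZ (hdisj k hk ?_)
    have := K₂.mul_mem (hK₂.lt.le hwZ) (K₂.inv_mem hk₂)
    rwa [mul_inv_cancel_right] at this
  -- the centralizer of `w` in `N`
  have hLw : ∀ n ∈ N, n ∈ C w → n ∈ CK N K ∧ n ∈ CK N K₂ := by
    intro n hn hnw
    have hA : n * k * n⁻¹ ∈ K := hK.normal.conj_mem k hk n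
    have hB : n * k₂ * n⁻¹ ∈ K₂ := hK₂.normal.conj_mem k₂ hk₂ n
    have hAB : n * k * n⁻¹ * (n * k₂ * n⁻¹) = k * k₂ := by
      have h1 : n * (k * k₂) = k * k₂ * n := mem_C.1 hnw
      calc n * k * n⁻¹ * (n * k₂ * n⁻¹) = n * (k * k₂) * n⁻¹ := by group
        _ = k * k₂ := by rw [h1, mul_inv_cancel_right]
    have e1 : n * k * n⁻¹ = k * k₂ * (n * k₂ * n⁻¹)⁻¹ := eq_mul_inv_of_mul_eq hAB
    have e2 : k⁻¹ * (n * k * n⁻¹) = k₂ * (n * k₂ * n⁻¹)⁻¹ := by
      rw [e1, ← mul_assoc, inv_mul_cancel_left]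
    have hz : k⁻¹ * (n * k * n⁻¹) ∈ Z N :=
      hdisj _ (K.mul_mem (K.inv_mem hk) hA) (e2 ▸ K₂.mul_mem hk₂ (K₂.inv_mem hB))
    have hz₁ : ⁅n, k⁆ ∈ Z N := by
      have := (Z_normal h.normal).conj_mem _ hz k
      rw [commutatorElement_def]
      simpa [mul_assoc] using this
    have hz₂ : ⁅n, k₂⁆ ∈ Z N := by
      rw [e2] at hz
      have := (Z N).inv_mem hz
      rw [commutatorElement_def]
      simpa [mul_assoc] using this
    exact ⟨(C_inf_eq_CK h hK hk hkZ).le ⟨mem_C_of_not_nilpotent h hnn (hK.le hk) hkZ hz₁, hn⟩,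
      (C_inf_eq_CK h hK₂ hk₂ hk₂Z).le
        ⟨mem_C_of_not_nilpotent h hnn (hK₂.le hk₂) hk₂Z hz₂, hn⟩⟩
  have hCC₂ : ¬ CK N K ≤ CK N K₂ := fun hle => by
    haveI := CK_normal h hK₂
    have heq := CK_chief h hK (CK_normal h hK₂) hle inf_le_left fun hle' => hyC (hle' hyC₂)
    exact hk₂Z (mem_Z.2 ⟨hK₂.le hk₂, fun n hn => ((heq.ge hn).2 k₂ hk₂).symm⟩)
  have hCw : ¬ CK N K ≤ C w := fun hle => hCC₂ fun x hx => (hLw x hx.1 (hle hx)).2
  obtain ⟨a', ha', m', hm', ham'⟩ := dedekind h hwN hwZ inf_le_left hCw hy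
  exact hyC (ham' ▸ (CK N K).mul_mem ha' (hLw m' hm'.2 hm'.1).1)

end Chief

/-- `Z(N)` as seen inside `N`. -/
theorem center_eq : Subgroup.center N = (Z N).subgroupOf N := by
  ext x
  rw [Subgroup.mem_subgroupOf, Subgroup.mem_center_iff, mem_Z]
  exact ⟨fun hx => ⟨x.2, fun n hn => congrArg Subtype.val (hx ⟨n, hn⟩)⟩,
    fun hx n => Subtype.ext (hx.2 n n.2)⟩

/-- The nilpotent case. -/
theorem elementary_of_nilpotent (hn : Group.IsNilpotent N) :
    ∃ p : ℕ, p.Prime ∧ Cfsg.IsElementaryAbelian p (⊤ : Subgroup (↥N ⧸ Subgroup.center ↥N)) := by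
  haveI := h.normal
  haveI := hn
  have hcond := Group.normalizerCondition_of_isNilpotent (G := N)
  -- centralizers are normal in `G`
  have hLn : ∀ x ∈ N, x ∉ Z N → (C x ⊓ N).Normal := by
    intro x hx hxZ
    have hlt : (C x).subgroupOf N < ⊤ := lt_top_iff_ne_top.2 fun he =>
      not_le_C hx hxZ (Subgroup.subgroupOf_eq_top.1 he)
    obtain ⟨n, hnn, hnC⟩ := SetLike.exists_of_lt (hcond _ hlt)
    refine normal_of_normalized h hx hxZ (U := Subgroup.zpowers (n : G))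
      (fun hle => hnC (hle (Subgroup.mem_zpowers _))) ?_ ?_
    · have := C_le_normalizer_inf x h.normal
      rwa [inf_comm] at this
    · rw [Subgroup.zpowers_le, Subgroup.mem_normalizer_iff]
      intro w
      constructor
      · intro hw
        exact ⟨(Subgroup.mem_normalizer_iff.1 hnn ⟨w, hw.2⟩).1 hw.1,
          N.mul_mem (N.mul_mem n.2 hw.2) (N.inv_mem n.2)⟩
      · intro hw
        have hwN : w ∈ N := by simpa [mul_assoc] using h.normal.conj_mem _ hw.2 (n : G)⁻¹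
        exact ⟨(Subgroup.mem_normalizer_iff.1 hnn ⟨w, hwN⟩).2 hw.1, hwN⟩
  -- the derived group centralizes everything
  have hderC : ∀ x ∈ N, x ∉ Z N → ∀ a ∈ N, ∀ b ∈ N, ⁅a, b⁆ ∈ C x := by
    intro x hx hxZ a ha b hb
    haveI := hLn x hx hxZ
    by_contra hbad
    have hle : ¬ ⁅N, N⁆ ≤ C x := fun hle => hbad (hle (Subgroup.commutator_mem_commutator ha hb))
    haveI : ((C x ⊓ N).subgroupOf N).Normal := Subgroup.Normal.subgroupOf inferInstance N
    let qL := QuotientGroup.mk' ((C x ⊓ N).subgroupOf N)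
    have hperf : commutator (↥N ⧸ (C x ⊓ N).subgroupOf N) = ⊤ := by
      refine top_le_iff.1 fun e _ => ?_
      obtain ⟨n, rfl⟩ := QuotientGroup.mk'_surjective ((C x ⊓ N).subgroupOf N) e
      obtain ⟨u, hu, m, hm, hum⟩ := dedekind h hx hxZ (Subgroup.commutator_le_self N) hle n.2
      rw [← Subgroup.map_subtype_commutator] at hu
      obtain ⟨u', hu', rfl⟩ := hu
      have hnu : n = u' * ⟨m, hm.2⟩ := Subtype.ext hum.symm
      rw [hnu, map_mul, show (QuotientGroup.mk' ((C x ⊓ N).subgroupOf N)) ⟨m, hm.2⟩ = 1 from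
        (QuotientGroup.eq_one_iff _).2 hm, mul_one]
      have := Subgroup.mem_map_of_mem qL hu'
      rw [_root_.commutator_def, Subgroup.map_commutator] at this
      exact Subgroup.commutator_mono le_top le_top this
    haveI : Group.IsNilpotent (↥N ⧸ (C x ⊓ N).subgroupOf N) :=
      Group.nilpotent_of_surjective qL (QuotientGroup.mk'_surjective _)
    haveI : Group.IsPerfect (↥N ⧸ (C x ⊓ N).subgroupOf N) := ⟨hperf⟩
    haveI : Subsingleton (↥N ⧸ (C x ⊓ N).subgroupOf N) := by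
      by_contra hns
      rw [not_subsingleton_iff_nontrivial] at hns
      exact Group.IsPerfect.not_isNilpotent (↥N ⧸ (C x ⊓ N).subgroupOf N) inferInstance
    refine not_le_C hx hxZ fun n hn => ?_
    exact ((QuotientGroup.eq_one_iff (N := (C x ⊓ N).subgroupOf N) (⟨n, hn⟩ : N)).1 (Subsingleton.elim _ _)).1
  have hder : ∀ a ∈ N, ∀ b ∈ N, ⁅a, b⁆ ∈ Z N := by
    intro a ha b hb
    refine mem_Z.2 ⟨Subgroup.commutator_le_self N (Subgroup.commutator_mem_commutator ha hb),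
      fun n hn => ?_⟩
    by_cases hnZ : n ∈ Z N
    · exact ((mem_Z.1 hnZ).2 _
        (Subgroup.commutator_le_self N (Subgroup.commutator_mem_commutator ha hb))).symm
    · exact (mem_C.1 (hderC n hn hnZ a ha b hb)).symm
  have hcommQ : IsMulCommutative (⊤ : Subgroup (↥N ⧸ Subgroup.center ↥N)) := ⟨⟨by
    rintro ⟨a, -⟩ ⟨b, -⟩
    apply Subtype.ext
    obtain ⟨a', rfl⟩ := QuotientGroup.mk'_surjective _ a
    obtain ⟨b', rfl⟩ := QuotientGroup.mk'_surjective _ b
    show QuotientGroup.mk' _ a' * QuotientGroup.mk' _ b' =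
      QuotientGroup.mk' _ b' * QuotientGroup.mk' _ a'
    rw [← commutatorElement_eq_one_iff_mul_comm, ← map_commutatorElement]
    refine (QuotientGroup.eq_one_iff _).2 ?_
    rw [center_eq h]
    exact hder a' a'.2 b' b'.2⟩⟩
  by_cases htriv : ∀ x ∈ N, x ∈ Z N
  · refine ⟨2, Nat.prime_two, hcommQ, ?_⟩
    rintro a -
    obtain ⟨a', rfl⟩ := QuotientGroup.mk'_surjective _ a
    rw [show QuotientGroup.mk' (Subgroup.center N) a' = 1 from (QuotientGroup.eq_one_iff _).2
      (by rw [center_eq h]; exact htriv a' a'.2), one_pow]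
  push Not at htriv
  obtain ⟨x₁, hx₁, hx₁Z⟩ := htriv
  obtain ⟨p, x₀, hp, hx₀, hx₀Z, i, hi⟩ := exists_primary (N := N) hx₁Z
  have hx₀N : x₀ ∈ N := Subgroup.zpowers_le.2 hx₁ hx₀
  haveI := Fact.mk hp
  obtain ⟨j, -, hj⟩ := (Nat.dvd_prime_pow hp).1 (orderOf_dvd_of_pow_eq_one hi)
  -- coprime elements commute
  have hcop : ∀ a ∈ N, ∀ b ∈ N, (orderOf a).Coprime (orderOf b) → a * b = b * a := by
    intro a ha b hb hab
    rw [← commutatorElement_eq_one_iff_mul_comm]
    have hcz := hder a ha b hb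
    set c := ⁅a, b⁆ with hcdef
    have hca : Commute c a := ((mem_Z.1 hcz).2 _ ha).symm
    have hcb : Commute c b := ((mem_Z.1 hcz).2 _ hb).symm
    have h1 : a * b * a⁻¹ = c * b := by rw [hcdef, commutatorElement_def]; group
    have h2 : b⁻¹ * a * b = c * a := by
      calc b⁻¹ * a * b = b⁻¹ * (a * b * a⁻¹) * a := by group
        _ = c * a := by
          rw [h1, ← mul_assoc b⁻¹ c b, ← (hcb.inv_right).eq, mul_assoc c, inv_mul_cancel, mul_one]
    have hb1 : c ^ orderOf b = 1 := by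
      have h3 := congrArg (fun t => t ^ orderOf b) h1
      simp only [conj_pow, pow_orderOf_eq_one, mul_one, mul_inv_cancel, hcb.mul_pow] at h3
      exact h3.symm
    have ha1 : c ^ orderOf a = 1 := by
      have h3 := congrArg (fun t => t ^ orderOf a) h2
      have h4 : (b⁻¹ * a * b) ^ orderOf a = 1 := by
        have := conj_pow (a := b⁻¹) (b := a) (i := orderOf a)
        rw [inv_inv, pow_orderOf_eq_one, mul_one, inv_mul_cancel] at this
        exact this
      simp only [h4, hca.mul_pow, pow_orderOf_eq_one, mul_one] at h3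
      exact h3.symm
    rw [← orderOf_eq_one_iff]
    exact Nat.eq_one_of_dvd_coprimes hab (orderOf_dvd_of_pow_eq_one ha1)
      (orderOf_dvd_of_pow_eq_one hb1)
  have hp' : ∀ y ∈ N, (orderOf y).Coprime p → y ∈ Z N := by
    intro y hy hyp
    by_contra hyZ
    have hc0 : (orderOf x₀).Coprime (orderOf y) := by rw [hj]; exact hyp.symm.pow_left j
    have heq : C x₀ = C y := C_eq_of_coprime h hx₀N hx₀Z hy hyZ (hcop _ hx₀N _ hy hc0) hc0
    refine not_le_C hx₀N hx₀Z fun n hn => ?_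
    obtain ⟨u, v, hu, hv, huv, -, ⟨m, hm⟩, hvp⟩ :=
      Transfer.PResidual.exists_pPart_mul_pPrimePart (p := p) n (isOfFinOrder_of_finite n)
    have huN : u ∈ N := Subgroup.zpowers_le.2 hn hu
    have hvN : v ∈ N := Subgroup.zpowers_le.2 hn hv
    obtain ⟨b, -, hb⟩ := (Nat.dvd_prime_pow hp).1 (orderOf_dvd_of_pow_eq_one hm)
    rw [← huv]
    refine (C x₀).mul_mem (heq ▸ mem_C.2 (hcop u huN y hy ?_)) (mem_C.2 (hcop v hvN x₀ hx₀N ?_))
    · rw [hb]; exact hyp.symm.pow_left b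
    · rw [hj]; exact hvp.pow_right j
  -- `N ^ p ≤ Z(N)`
  have hpow : ∀ x ∈ N, x ∉ Z N → ∀ n ∈ N, n ^ p ∈ C x := by
    intro x hx hxZ
    let U : Subgroup G :=
      { carrier := {n | n ∈ N ∧ n ^ p ∈ C x}
        one_mem' := ⟨N.one_mem, by simp⟩
        mul_mem' := fun {a b} ha hb => ⟨N.mul_mem ha.1 hb.1, by
          haveI := hLn x hx hxZ
          let qx := QuotientGroup.mk' (C x ⊓ N)
          have hab : Commute (qx a) (qx b) := by
            rw [commute_iff_eq, ← commutatorElement_eq_one_iff_mul_comm, ← map_commutatorElement]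
            exact (QuotientGroup.eq_one_iff _).2 ⟨hderC x hx hxZ a ha.1 b hb.1,
              Subgroup.commutator_le_self N (Subgroup.commutator_mem_commutator ha.1 hb.1)⟩
          have hone : ∀ c ∈ N, c ^ p ∈ C x → qx (c ^ p) = 1 := fun c hc hcp =>
            (QuotientGroup.eq_one_iff _).2 ⟨hcp, N.pow_mem hc p⟩
          have : qx ((a * b) ^ p) = 1 := by
            rw [map_pow, map_mul, hab.mul_pow, ← map_pow, ← map_pow, hone a ha.1 ha.2,
              hone b hb.1 hb.2, one_mul]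
          exact ((QuotientGroup.eq_one_iff _).1 this).1⟩
        inv_mem' := fun {a} ha => ⟨N.inv_mem ha.1, by rw [inv_pow]; exact (C x).inv_mem ha.2⟩ }
    obtain ⟨n, hn, hnx⟩ := SetLike.not_le_iff_exists.1 (not_le_C hx hxZ)
    obtain ⟨u, hu, huC, hup⟩ : ∃ u ∈ N, u ∉ C x ∧ u ^ p ∈ C x := by
      obtain ⟨u, v, hu, hv, huv, -, ⟨m, hm⟩, hvp⟩ :=
        Transfer.PResidual.exists_pPart_mul_pPrimePart (p := p) n (isOfFinOrder_of_finite n)
      have hvC : v ∈ C x := Z_le_C hx (hp' v (Subgroup.zpowers_le.2 hn hv) hvp)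
      have huC : u ∉ C x := fun huC => hnx (huv ▸ (C x).mul_mem huC hvC)
      classical
      have hex : ∃ e, u ^ p ^ e ∈ C x := ⟨m, hm ▸ one_mem _⟩
      obtain ⟨e, he⟩ : ∃ e, Nat.find hex = e + 1 := by
        refine Nat.exists_eq_succ_of_ne_zero fun h0 => huC ?_
        have hs := Nat.find_spec hex
        rw [h0, pow_zero, pow_one] at hs
        exact hs
      refine ⟨u ^ p ^ e, N.pow_mem (Subgroup.zpowers_le.2 hn hu) _,
        Nat.find_min hex (show e < Nat.find hex by omega), ?_⟩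
      rw [← pow_mul, ← pow_succ, ← he]
      exact Nat.find_spec hex
    haveI : U.Normal := by
      refine normal_of_normalized h hx hxZ (U := N) (not_le_C hx hxZ) ?_ ?_
      · intro g hg
        rw [Subgroup.mem_normalizer_iff]
        intro w
        constructor
        · rintro ⟨h1, h2⟩
          refine ⟨h.normal.conj_mem w h1 g, ?_⟩
          rw [conj_pow]
          exact (C x).mul_mem ((C x).mul_mem hg h2) ((C x).inv_mem hg)
        · rintro ⟨h1, h2⟩
          refine ⟨by simpa [mul_assoc] using h.normal.conj_mem _ h1 g⁻¹, ?_⟩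
          rw [conj_pow] at h2
          simpa [mul_assoc] using (C x).mul_mem ((C x).mul_mem ((C x).inv_mem hg) h2) hg
      · intro g hg
        have key : ∀ g ∈ N, ∀ w ∈ U, g * w * g⁻¹ ∈ U := by
          intro g hg w hw
          refine ⟨h.normal.conj_mem w hw.1 g, ?_⟩
          rw [conj_pow]
          have h1 := (C x).mul_mem (hderC x hx hxZ g hg _ (N.pow_mem hw.1 p)) hw.2
          rw [commutatorElement_def] at h1
          simpa [mul_assoc] using h1
        rw [Subgroup.mem_normalizer_iff]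
        intro w
        refine ⟨key g hg w, fun hw => ?_⟩
        simpa [mul_assoc] using key g⁻¹ (N.inv_mem hg) _ hw
    intro n' hn'
    obtain ⟨a, ha, m, hm, rfl⟩ :=
      dedekind h hx hxZ (U := U) (fun a ha => ha.1) (fun hle => huC (hle ⟨hu, hup⟩)) hn'
    exact (U.mul_mem ha ⟨hm.2, (C x).pow_mem hm.1 p⟩).2
  refine ⟨p, hp, hcommQ, ?_⟩
  rintro a -
  obtain ⟨a', rfl⟩ := QuotientGroup.mk'_surjective _ a
  rw [← map_pow]
  refine (QuotientGroup.eq_one_iff _).2 ?_
  rw [center_eq h]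
  refine mem_Z.2 ⟨(a' ^ p).2, fun n hn => ?_⟩
  by_cases hnZ : n ∈ Z N
  · exact ((mem_Z.1 hnZ).2 _ (a' ^ p).2).symm
  · exact (mem_C.1 (hpow n hn hnZ a' a'.2)).symm

/-- The non-nilpotent case. -/
theorem frobenius_of_not_nilpotent (hnn : ¬ Group.IsNilpotent N) :
    ∃ (Q K : Subgroup (↥N ⧸ Subgroup.center ↥N)) (p : ℕ), p.Prime ∧ Cfsg.IsFrobeniusComplement Q ∧
      (Nat.card ↥Q).Prime ∧ K.Normal ∧
      (K : Set (↥N ⧸ Subgroup.center ↥N)) = Cfsg.frobeniusKernel Q ∧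
      Cfsg.IsElementaryAbelian p K := by
  haveI := h.normal
  have hlt : Z N < N := by
    refine lt_of_le_of_ne inf_le_left fun he => hnn ?_
    haveI : IsMulCommutative N :=
      ⟨⟨fun a b => Subtype.ext (((mem_Z.1 (he.ge a.2)).2 b b.2).symm)⟩⟩
    exact isNilpotent_of_central (p := 2) fun y _ => Subgroup.mem_center_iff.2 fun g =>
      IsMulCommutative.is_comm.comm g y
  obtain ⟨K, -, hK⟩ := exists_chief h.normal h.normal hlt le_rfl
  haveI := hK.normal
  obtain ⟨p, hp, hexp⟩ := chief_exponent h hK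
  have hCK := CK_eq h hnn hK
  obtain ⟨k, hk, hkZ⟩ := SetLike.exists_of_lt hK.lt
  have hKN : ∀ U : Subgroup G, U.Normal → K ≤ U → U ≤ N → ¬ U ≤ K → U = N := fun U hU h1 h2 h3 =>
    CK_chief h hK hU (hCK.le.trans h1) h2 (fun hle => h3 (hle.trans hCK.le))
  obtain ⟨y, hy, hyk⟩ := SetLike.not_le_iff_exists.1 (not_le_C (hK.le hk) hkZ)
  have hyC : y ∉ CK N K := fun hyC => hyk ((C_inf_eq_CK h hK hk hkZ).ge hyC).1
  have hyZ : y ∉ Z N := fun hyZ => hyk (Z_le_C (hK.le hk) hyZ)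
  have hKy : ¬ K ≤ C y := fun hle => hkZ ((inf_C_eq h hK hy hyC).le ⟨hk, hle hk⟩)
  let H₀ : Subgroup G := C y ⊓ N
  have hdisj : ∀ a ∈ K, a ∈ H₀ → a ∈ Z N := fun a ha hb => (inf_C_eq h hK hy hyC).le ⟨ha, hb.1⟩
  have hprod : ∀ n ∈ N, ∃ a ∈ K, ∃ b ∈ H₀, a * b = n := fun n hn =>
    dedekind h hy hyZ hK.le hKy hn
  let π := QuotientGroup.mk' (Subgroup.center N)
  have hπ : ∀ a : N, π a = 1 ↔ (a : G) ∈ Z N := fun a => by
    show (a : ↥N ⧸ Subgroup.center ↥N) = 1 ↔ _
    rw [QuotientGroup.eq_one_iff, center_eq h, Subgroup.mem_subgroupOf]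
  let Q : Subgroup (↥N ⧸ Subgroup.center ↥N) := (H₀.subgroupOf N).map π
  let Kq : Subgroup (↥N ⧸ Subgroup.center ↥N) := (K.subgroupOf N).map π
  haveI : Kq.Normal := (Subgroup.Normal.subgroupOf hK.normal N).map π (QuotientGroup.mk'_surjective _)
  have hinf : ∀ e, e ∈ Kq → e ∈ Q → e = 1 := by
    rintro _ ⟨a, ha, rfl⟩ ⟨b, hb, hba⟩
    have h1 : ((a⁻¹ * b : N) : G) ∈ Z N := by
      rw [← hπ, map_mul, map_inv, hba, inv_mul_cancel]
    rw [hπ]
    refine hdisj _ ha ?_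
    have hinv := (Z N).inv_mem h1
    have h2 : ((a⁻¹ * b : N) : G)⁻¹ ∈ H₀ := ⟨Z_le_C hy hinv, hinv.1⟩
    have h3 := H₀.mul_mem hb h2
    simpa [mul_assoc] using h3
  have hdec : ∀ e, ∃ a ∈ Kq, ∃ b ∈ Q, a * b = e := by
    intro e
    obtain ⟨n, rfl⟩ := QuotientGroup.mk'_surjective (Subgroup.center N) e
    obtain ⟨a, ha, b, hb, hab⟩ := hprod n n.2
    exact ⟨π ⟨a, hK.le ha⟩, Subgroup.mem_map_of_mem π ha, π ⟨b, hb.2⟩,
      Subgroup.mem_map_of_mem π hb, by rw [← map_mul]; exact congrArg π (Subtype.ext hab)⟩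
  have hc : Subgroup.IsComplement' Kq Q := by
    refine Subgroup.isComplement'_of_disjoint_and_mul_eq_univ
      (Subgroup.disjoint_def.2 fun h1 h2 => hinf _ h1 h2) (Set.eq_univ_of_forall fun e => ?_)
    obtain ⟨a, ha, b, hb, hab⟩ := hdec e
    exact ⟨a, ha, b, hb, hab⟩
  have hKne : Kq ≠ ⊥ := fun h0 => hkZ ((hπ ⟨k, hK.le hk⟩).1 (Subgroup.mem_bot.1
    (h0 ▸ Subgroup.mem_map_of_mem π (show (⟨k, hK.le hk⟩ : N) ∈ K.subgroupOf N from hk))))
  have hQne : Q ≠ ⊥ := fun h0 => hyZ ((hπ ⟨y, hy⟩).1 (Subgroup.mem_bot.1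
    (h0 ▸ Subgroup.mem_map_of_mem π
      (show (⟨y, hy⟩ : N) ∈ H₀.subgroupOf N from ⟨self_mem_C y, hy⟩))))
  have hfix : ∀ e ∈ Q, e ≠ 1 → Kq ⊓ Subgroup.centralizer {e} = ⊥ := by
    rintro _ ⟨b, hb, rfl⟩ hb1
    rw [eq_bot_iff]
    rintro _ ⟨⟨a, ha, rfl⟩, hab⟩
    rw [Subgroup.mem_bot, hπ]
    have hbZ : (b : G) ∉ Z N := fun hbZ => hb1 ((hπ b).2 hbZ)
    have hbK : (b : G) ∉ CK N K := fun hbK => hbZ (hdisj _ (hCK.le hbK) hb)
    have hz : ⁅(a : G), (b : G)⁆ ∈ Z N := by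
      have h1 : π ⁅a, b⁆ = 1 := by
        rw [map_commutatorElement, commutatorElement_eq_one_iff_mul_comm]
        exact Subgroup.mem_centralizer_singleton_iff.1 hab
      exact (hπ _).1 h1
    exact (inf_C_eq h hK b.2 hbK).le ⟨ha, mem_C_of_not_nilpotent h hnn b.2 hbZ hz⟩
  have hFC : Cfsg.IsFrobeniusComplement Q :=
    (Frobenius.isFrobeniusComplement_iff_centralizer hc hKne hQne).2 hfix
  have hKcomm : IsMulCommutative Kq := ⟨⟨by
    rintro ⟨_, a, ha, rfl⟩ ⟨_, b, hb, rfl⟩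
    apply Subtype.ext
    show π a * π b = π b * π a
    rw [← map_mul, ← map_mul]
    exact congrArg π (Subtype.ext (chief_comm h hK ha hb))⟩⟩
  -- `N / K` is nilpotent, hence abelian and of prime exponent
  have hder : ∀ a ∈ N, ∀ b ∈ N, ⁅a, b⁆ ∈ K := by
    intro a ha b hb
    by_contra hbad
    have heq : K ⊔ ⁅N, N⁆ = N := hKN _ inferInstance le_sup_left
      (sup_le hK.le (Subgroup.commutator_le_self N))
      fun hle => hbad (hle (Subgroup.mem_sup_right (Subgroup.commutator_mem_commutator ha hb)))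
    haveI : (K.subgroupOf N).Normal := Subgroup.Normal.subgroupOf hK.normal N
    let qK := QuotientGroup.mk' (K.subgroupOf N)
    have hperf : commutator (↥N ⧸ K.subgroupOf N) = ⊤ := by
      refine top_le_iff.1 fun e _ => ?_
      obtain ⟨n, rfl⟩ := QuotientGroup.mk'_surjective (K.subgroupOf N) e
      obtain ⟨a', ha', c', hc', hac⟩ := Subgroup.mem_sup_of_normal_left.1 (heq.ge n.2)
      rw [← Subgroup.map_subtype_commutator] at hc'
      obtain ⟨c'', hc'', rfl⟩ := hc'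
      have hn' : n = ⟨a', hK.le ha'⟩ * c'' := Subtype.ext hac.symm
      rw [hn', map_mul, show (QuotientGroup.mk' (K.subgroupOf N)) ⟨a', hK.le ha'⟩ = 1 from
        (QuotientGroup.eq_one_iff _).2 ha', one_mul]
      have := Subgroup.mem_map_of_mem qK hc''
      rw [_root_.commutator_def, Subgroup.map_commutator] at this
      exact Subgroup.commutator_mono le_top le_top this
    haveI := isNilpotent_inf h hy hyZ
    haveI : Group.IsNilpotent (↥N ⧸ K.subgroupOf N) :=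
      Group.nilpotent_of_surjective (qK.comp (Subgroup.inclusion (inf_le_right : H₀ ≤ N))) (by
        intro e
        obtain ⟨n, rfl⟩ := QuotientGroup.mk'_surjective (K.subgroupOf N) e
        obtain ⟨a', ha', b', hb', hab⟩ := hprod n n.2
        refine ⟨⟨b', hb'⟩, ?_⟩
        have hn' : n = ⟨a', hK.le ha'⟩ * ⟨b', hb'.2⟩ := Subtype.ext hab.symm
        rw [hn', map_mul, show (QuotientGroup.mk' (K.subgroupOf N)) ⟨a', hK.le ha'⟩ = 1 from
          (QuotientGroup.eq_one_iff _).2 ha', one_mul]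
        rfl)
    haveI : Group.IsPerfect (↥N ⧸ K.subgroupOf N) := ⟨hperf⟩
    haveI : Subsingleton (↥N ⧸ K.subgroupOf N) := by
      by_contra hns
      rw [not_subsingleton_iff_nontrivial] at hns
      exact Group.IsPerfect.not_isNilpotent (↥N ⧸ K.subgroupOf N) inferInstance
    exact hyC (hCK.ge ((QuotientGroup.eq_one_iff (N := K.subgroupOf N) (⟨y, hy⟩ : N)).1 (Subsingleton.elim _ _)))
  have hQcomm : IsMulCommutative Q := ⟨⟨by
    rintro ⟨_, a, ha, rfl⟩ ⟨_, b, hb, rfl⟩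
    apply Subtype.ext
    show π a * π b = π b * π a
    rw [← commutatorElement_eq_one_iff_mul_comm, ← map_commutatorElement]
    refine hinf _ (Subgroup.mem_map_of_mem π ?_) (Subgroup.mem_map_of_mem π ?_)
    · exact hder a a.2 b b.2
    · exact Subgroup.commutator_le_self _ (Subgroup.commutator_mem_commutator ha hb)⟩⟩
  obtain ⟨r, hr, e, heQ, hord⟩ : ∃ r, r.Prime ∧ ∃ e : ↥N ⧸ Subgroup.center ↥N, e ∈ Q ∧
      orderOf e = r := by
    have h1 : Nat.card Q ≠ 1 := fun h1 => hQne (Subgroup.card_eq_one.1 h1)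
    obtain ⟨r, hr, hdvd⟩ := Nat.exists_prime_and_dvd h1
    haveI := Fact.mk hr
    obtain ⟨e, he⟩ := exists_prime_orderOf_dvd_card' r hdvd
    exact ⟨r, hr, e, e.2, by rw [Subgroup.orderOf_coe, he]⟩
  obtain ⟨b, hb, rfl⟩ := heQ
  -- every element has `r`-th power in `K`
  let U : Subgroup G :=
    { carrier := {n | n ∈ N ∧ n ^ r ∈ K}
      one_mem' := ⟨N.one_mem, by simp⟩
      mul_mem' := fun {a c} ha hc => ⟨N.mul_mem ha.1 hc.1, by
        let qK := QuotientGroup.mk' K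
        have hac : Commute (qK a) (qK c) := by
          rw [commute_iff_eq, ← commutatorElement_eq_one_iff_mul_comm, ← map_commutatorElement]
          exact (QuotientGroup.eq_one_iff _).2 (hder a ha.1 c hc.1)
        have : qK ((a * c) ^ r) = 1 := by
          rw [map_pow, map_mul, hac.mul_pow, ← map_pow, ← map_pow,
            show qK (a ^ r) = 1 from (QuotientGroup.eq_one_iff _).2 ha.2,
            show qK (c ^ r) = 1 from (QuotientGroup.eq_one_iff _).2 hc.2, one_mul]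
        exact (QuotientGroup.eq_one_iff _).1 this⟩
      inv_mem' := fun {a} ha => ⟨N.inv_mem ha.1, by rw [inv_pow]; exact K.inv_mem ha.2⟩ }
  have hUN : U = N := by
    refine hKN U ⟨fun a ha g => ⟨h.normal.conj_mem a ha.1 g, by
      rw [conj_pow]; exact hK.normal.conj_mem _ ha.2 g⟩⟩
      (fun a ha => ⟨hK.le ha, K.pow_mem ha r⟩) (fun a ha => ha.1) fun hle => ?_
    have hbr : π (b ^ r) = 1 := by rw [map_pow, ← hord, pow_orderOf_eq_one]
    have hbU : (b : G) ∈ U := ⟨b.2, hK.lt.le ((hπ (b ^ r)).1 hbr)⟩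
    have h1 : π b = 1 := (hπ b).2 (hdisj _ (hle hbU) hb)
    rw [h1, orderOf_one] at hord
    exact hr.ne_one hord.symm
  have hQexp : ∀ e ∈ Q, e ^ r = 1 := by
    rintro _ ⟨a, ha, rfl⟩
    refine hinf _ ?_ (Q.pow_mem (Subgroup.mem_map_of_mem π ha) r)
    rw [← map_pow]
    exact Subgroup.mem_map_of_mem π (hUN.ge a.2).2
  haveI := hKcomm
  haveI := hQcomm
  have hQnorm : Q ≤ Subgroup.normalizer (Kq : Set (↥N ⧸ Subgroup.center ↥N)) := by
    rw [Subgroup.normalizer_eq_top_iff.2 inferInstance]; exact le_top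
  haveI : Nontrivial Kq := (Subgroup.nontrivial_iff_ne_bot _).2 hKne
  open scoped IsMulCommutative in
  have hcyc : IsCyclic Q := (Frobenius.isFPF_conj hQnorm hfix).isCyclic_of_commutative
  have hQprime : (Nat.card Q).Prime := by
    obtain ⟨g, hg⟩ := hcyc.exists_ofOrder_eq_natCard
    have h1 : orderOf g ∣ r := orderOf_dvd_of_pow_eq_one (Subtype.ext (hQexp g.1 g.2))
    rcases hr.eq_one_or_self_of_dvd _ h1 with h2 | h2
    · exact absurd (Subgroup.card_eq_one.1 (hg.symm.trans h2)) hQne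
    · rw [← hg, h2]; exact hr
  refine ⟨Q, Kq, p, hp, hFC, hQprime, inferInstance,
    Frobenius.coe_eq_frobeniusKernel hFC inferInstance hc, hKcomm, ?_⟩
  rintro _ ⟨a, ha, rfl⟩
  rw [← map_pow, hπ]
  exact hexp _ ha

end Cfsg.Agent.Lib.FiniteGroupStructure.MaximalCentralizer
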